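import Groth.Agent.DiagUnip.Unique
import Groth.Agent.UnipConil.Comodules
import Groth.Agent.MultT.SplitConn
import Groth.Agent.MultT.TorsionDiag
import Groth.Agent.MultT.BaseChange
import Mathlib.RingTheory.Bialgebra.TensorProduct
import Mathlib.LinearAlgebra.TensorProduct.RightExactness

/-!
# Extensions of multiplicative groups by unipotent groups: change of the ground field
-/

set_option autoImplicit false
set_option linter.style.haveILetI false
set_option linter.unusedSectionVars false
set_option backward.isDefEq.respectTransparency false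

universe u

open TensorProduct Coalgebra

noncomputable section

namespace Groth.Agent.DiagUnip

variable {k : Type u} [Field k] {A : Type u} [CommRing A] [HopfAlgebra k A]
variable {B : Type u} [CommRing B] [HopfAlgebra k B]

/-- The kernel of a map of Hopf algebras. -/
instance isHopfIdeal_ker (f : A →ₐc[k] B) : (RingHom.ker f).IsHopfIdeal k where
  counit_eq_zero := fun x hx => by
    rw [← CoalgHomClass.counit_comp_apply f x, show f x = 0 from hx, map_zero]
  map_mkQ_comul_eq_zero := fun x hx => by
    let N : Submodule k A := (RingHom.ker f).restrictScalars k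
    let fl : A →ₗ[k] B := (f : A →ₐ[k] B).toLinearMap
    let fb : A ⧸ N →ₗ[k] B := N.liftQ fl fun y hy => hy
    have hfb : Function.Injective fb := LinearMap.ker_eq_bot.mp (Submodule.ker_liftQ_eq_bot _ _ _ fun y hy => hy)
    refine TensorProduct.map_injective_of_flat_flat fb fb hfb hfb ?_
    rw [map_zero, ← LinearMap.comp_apply, ← TensorProduct.map_comp, Submodule.liftQ_mkQ]
    show TensorProduct.map fl fl (comul (R := k) x) = 0
    refine (CoalgHomClass.map_comp_comul_apply f x).trans ?_
    rw [show f x = 0 from hx, map_zero]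
  antipode_mem := fun x hx => by
    show f (HopfAlgebra.antipode k x) = 0
    rw [← HopfRange.antipode_map, show f x = 0 from hx, map_zero]

variable (K : Type u) [Field K] [Algebra k K]

/-- Base change of a map of bialgebras. -/
abbrev bcHom (f : A →ₐc[k] B) : K ⊗[k] A →ₐc[K] K ⊗[k] B :=
  Bialgebra.TensorProduct.map (BialgHom.id K K) f

theorem bcHom_tmul (f : A →ₐc[k] B) (c : K) (a : A) : bcHom K f (c ⊗ₜ[k] a) = c ⊗ₜ[k] f a := rfl

theorem bcHom_injective (f : A →ₐc[k] B) (hf : Function.Injective f) : Function.Injective (bcHom K f) :=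
  Module.Flat.lTensor_preserves_injective_linearMap (M := K) (f : A →ₐ[k] B).toLinearMap hf

theorem bcHom_surjective (f : A →ₐc[k] B) (hf : Function.Surjective f) : Function.Surjective (bcHom K f) :=
  LinearMap.lTensor_surjective K (g := (f : A →ₐ[k] B).toLinearMap) hf

/-- The inclusion into the base change. -/
abbrev inR : A →ₐ[k] K ⊗[k] A := Algebra.TensorProduct.includeRight

theorem inR_injective : Function.Injective (inR (k := k) (A := A) K) :=
  Algebra.TensorProduct.includeRight_injective (algebraMap k K).injective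

variable (J : Ideal A) [J.IsHopfIdeal k]

/-- The ideal of the base changed subgroup. -/
abbrev bcIdeal : Ideal (K ⊗[k] A) := RingHom.ker (bcHom K (Bialgebra.Quotient.mkBialgHom (R := k) J))

theorem bcIdeal_eq_map : bcIdeal K J = J.map (inR (k := k) K) := by
  have h := Algebra.TensorProduct.lTensor_ker (A := K) (Ideal.Quotient.mkₐ k J) Ideal.Quotient.mk_surjective
  refine Eq.trans h ?_
  congr 1
  exact Ideal.mk_ker

theorem bcIdeal_eq (ψ : B →ₐc[k] A) (hJ : J = Ideal.map (ψ : B →+* A) (RingHom.ker (Bialgebra.counitAlgHom k B))) :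
    bcIdeal K J = Ideal.map (bcHom K ψ : K ⊗[k] B →+* K ⊗[k] A)
      (RingHom.ker (Bialgebra.counitAlgHom K (K ⊗[k] B))) := by
  rw [bcIdeal_eq_map]
  subst hJ
  refine le_antisymm ?_ ?_
  · rw [Ideal.map_le_iff_le_comap, Ideal.map_le_iff_le_comap]
    intro b hb
    refine Ideal.mem_map_of_mem (bcHom K ψ : K ⊗[k] B →+* K ⊗[k] A) (x := (1 : K) ⊗ₜ[k] b) ?_
    show counit (R := K) ((1 : K) ⊗ₜ[k] b) = 0
    rw [TensorProduct.counit_tmul, show counit (R := k) b = 0 from hb, zero_smul]
  · rw [Ideal.map_le_iff_le_comap]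
    intro x hx
    rw [show x = x - algebraMap K (K ⊗[k] B) (counit (R := K) x) by
      rw [show counit (R := K) x = 0 from hx, map_zero, sub_zero]]
    clear hx
    induction x using TensorProduct.induction_on with
    | zero => simp
    | add x y hx hy =>
      rw [show x + y - algebraMap K (K ⊗[k] B) (counit (R := K) (x + y)) =
        (x - algebraMap K _ (counit (R := K) x)) + (y - algebraMap K _ (counit (R := K) y)) by
        rw [map_add, map_add]; abel]
      exact add_mem hx hy
    | tmul c b =>
      rw [Ideal.mem_comap, show c ⊗ₜ[k] b - algebraMap K (K ⊗[k] B) (counit (R := K) (c ⊗ₜ[k] b)) =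
        algebraMap K (K ⊗[k] B) c * ((1 : K) ⊗ₜ[k] (b - algebraMap k B (counit (R := k) b))) by
          rw [TensorProduct.counit_tmul, CommSemiring.counit_apply, Algebra.TensorProduct.algebraMap_apply,
            Algebra.TensorProduct.algebraMap_apply, Algebra.algebraMap_self, RingHom.id_apply, RingHom.id_apply,
            Algebra.TensorProduct.tmul_mul_tmul, mul_one, one_mul, TensorProduct.tmul_sub,
            Algebra.algebraMap_eq_smul_one, ← TensorProduct.smul_tmul], map_mul]
      refine Ideal.mul_mem_left _ _ ?_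
      refine Ideal.mem_map_of_mem (inR (k := k) K) (x := ψ (b - algebraMap k B (counit (R := k) b)))
        (Ideal.mem_map_of_mem _ ?_)
      rw [RingHom.mem_ker, map_sub, AlgHom.commutes]
      exact sub_self _

/-- The quotient by the base changed ideal inside the base change of the quotient. -/
def bcQuotHom : (K ⊗[k] A) ⧸ bcIdeal K J →ₐc[K] K ⊗[k] (A ⧸ J) :=
  BialgHom.ofAlgHom
    (Ideal.Quotient.liftₐ (bcIdeal K J)
      (bcHom K (Bialgebra.Quotient.mkBialgHom (R := k) J) : K ⊗[k] A →ₐ[K] K ⊗[k] (A ⧸ J)) fun a ha => ha)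
    (AlgHom.ext fun y => by
      obtain ⟨x, rfl⟩ := Ideal.Quotient.mk_surjective y
      exact CoalgHomClass.counit_comp_apply (bcHom K (Bialgebra.Quotient.mkBialgHom (R := k) J)) x)
    (AlgHom.ext fun y => by
      obtain ⟨x, rfl⟩ := Ideal.Quotient.mk_surjective y
      let L := Ideal.Quotient.liftₐ (bcIdeal K J)
        (bcHom K (Bialgebra.Quotient.mkBialgHom (R := k) J) : K ⊗[k] A →ₐ[K] K ⊗[k] (A ⧸ J)) fun a ha => ha
      show Algebra.TensorProduct.map L L
          (Algebra.TensorProduct.map (Ideal.Quotient.mkₐ K _) (Ideal.Quotient.mkₐ K _) (comul (R := K) x)) =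
        comul (R := K) (bcHom K (Bialgebra.Quotient.mkBialgHom (R := k) J) x)
      rw [HopfRange.comul_map]
      generalize comul (R := K) x = t
      induction t using TensorProduct.induction_on with
      | zero => simp
      | tmul a b => rfl
      | add a b ha hb => simp only [map_add, ha, hb])

theorem bcQuotHom_injective : Function.Injective (bcQuotHom (k := k) K J) :=
  RingHom.lift_injective_of_ker_le_ideal (bcIdeal K J)
    (f := (bcHom K (Bialgebra.Quotient.mkBialgHom (R := k) J) : K ⊗[k] A →+* K ⊗[k] (A ⧸ J))) (fun a ha => ha) le_rfl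

theorem bcQuotHom_surjective : Function.Surjective (bcQuotHom (k := k) K J) := fun y => by
  obtain ⟨x, rfl⟩ := bcHom_surjective K (Bialgebra.Quotient.mkBialgHom (R := k) J) Ideal.Quotient.mk_surjective y
  exact ⟨Ideal.Quotient.mk _ x, rfl⟩

theorem isUnipotent_bc (hU : HopfRep.IsUnipotent k (A ⧸ J)) :
    HopfRep.IsUnipotent K ((K ⊗[k] A) ⧸ bcIdeal K J) :=
  UnipConil.isUnipotent_of_conil (UnipConil.isConil_of_injective (bcQuotHom K J) (bcQuotHom_injective K J)
    (UnipConil.isConil_baseChange K (UnipConil.isConil_of_unipotent hU)))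

theorem isDiag_bc [IsSepClosed K] [Algebra.FiniteType k B] (hB : SGA3b.IsMultTypeConst k B) :
    SGA3b.IsDiag K (K ⊗[k] B) :=
  MultT.isDiag_of_isSepClosed (MultT.isMultType_baseChange (MultT.isMultType_of_const hB) K)

variable {ψ : B →ₐc[k] A}

theorem retr_bc (r : A →ₐc[k] B) (hr : r.comp ψ = BialgHom.id k B) :
    (bcHom K r).comp (bcHom K ψ) = BialgHom.id K (K ⊗[k] B) :=
  BialgHom.ext fun x => by
    show bcHom K r (bcHom K ψ x) = x
    induction x using TensorProduct.induction_on with
    | zero => simp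
    | tmul c b =>
      rw [bcHom_tmul, bcHom_tmul]
      exact congrArg (c ⊗ₜ[k] ·) (congrArg (fun f : B →ₐc[k] B => f b) hr)
    | add x y hx hy => simp only [map_add, hx, hy]

set_option synthInstance.maxHeartbeats 400000 in
/-- A map of groups over a larger field preserving the rational elements descends. -/
theorem descend_hom (r' : K ⊗[k] A →ₐc[K] K ⊗[k] B)
    (h : ∀ a : A, ∃ b : B, r' ((1 : K) ⊗ₜ[k] a) = (1 : K) ⊗ₜ[k] b) :
    ∃ r : A →ₐc[k] B, ∀ a : A, r' ((1 : K) ⊗ₜ[k] a) = (1 : K) ⊗ₜ[k] r a := by
  choose f hf using h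
  have hi : Function.Injective (inR (k := k) (A := B) K) := inR_injective K
  let r₀ : A →ₐ[k] B :=
    { toFun := f
      map_one' := hi (by show (1 : K) ⊗ₜ[k] f 1 = (1 : K) ⊗ₜ[k] (1 : B); rw [← hf]; exact map_one r')
      map_mul' := fun a a' => hi (by
        show (1 : K) ⊗ₜ[k] f (a * a') = (1 : K) ⊗ₜ[k] (f a * f a')
        rw [← hf, ← mul_one (1 : K), ← Algebra.TensorProduct.tmul_mul_tmul, map_mul, hf, hf,
          Algebra.TensorProduct.tmul_mul_tmul])
      map_zero' := hi (by show (1 : K) ⊗ₜ[k] f 0 = _; rw [← hf, TensorProduct.tmul_zero, map_zero, map_zero])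
      map_add' := fun a a' => hi (by
        show (1 : K) ⊗ₜ[k] f (a + a') = (1 : K) ⊗ₜ[k] (f a + f a')
        rw [← hf, TensorProduct.tmul_add, map_add, hf, hf, TensorProduct.tmul_add])
      commutes' := fun c => hi (by
        show (1 : K) ⊗ₜ[k] f (algebraMap k A c) = (1 : K) ⊗ₜ[k] algebraMap k B c
        rw [← hf, Algebra.algebraMap_eq_smul_one, Algebra.algebraMap_eq_smul_one, ← TensorProduct.smul_tmul,
          ← TensorProduct.smul_tmul, ← mul_one (c • (1 : K)), ← smul_eq_mul, ← TensorProduct.smul_tmul',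
          ← TensorProduct.smul_tmul', map_smul]
        congr 1
        exact map_one r') }
  have hr₀ : ∀ x : A, r' ((1 : K) ⊗ₜ[k] x) = (1 : K) ⊗ₜ[k] r₀ x := hf
  refine ⟨BialgHom.ofAlgHom r₀ (AlgHom.ext fun a => ?_) (AlgHom.ext fun a => ?_), hf⟩
  · refine (algebraMap k K).injective ?_
    have h := CoalgHomClass.counit_comp_apply r' ((1 : K) ⊗ₜ[k] a)
    rw [hr₀, TensorProduct.counit_tmul, TensorProduct.counit_tmul] at h
    simpa [Algebra.algebraMap_eq_smul_one] using h
  · let ι₂ : B ⊗[k] B →ₗ[k] (K ⊗[k] B) ⊗[K] (K ⊗[k] B) :=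
      ((TensorProduct.AlgebraTensorModule.distribBaseChange k K B B).toLinearMap.restrictScalars k) ∘ₗ
        TensorProduct.mk k K (B ⊗[k] B) 1
    have hι : Function.Injective ι₂ :=
      (TensorProduct.AlgebraTensorModule.distribBaseChange k K B B).injective.comp
        (Algebra.TensorProduct.includeRight_injective (R := k) (A := K) (B := B ⊗[k] B) (algebraMap k K).injective)
    refine hι ?_
    show ι₂ (Algebra.TensorProduct.map r₀ r₀ (comul (R := k) a)) = ι₂ (comul (R := k) (r₀ a))
    have hco : ∀ {C : Type u} [CommRing C] [HopfAlgebra k C] (c : C),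
        comul (R := K) ((1 : K) ⊗ₜ[k] c) =
          TensorProduct.AlgebraTensorModule.distribBaseChange k K C C ((1 : K) ⊗ₜ[k] comul (R := k) c) := by
      intro C _ _ c
      rw [TensorProduct.comul_tmul, CommSemiring.comul_apply]
      generalize comul (R := k) c = t
      induction t using TensorProduct.induction_on with
      | zero => simp
      | tmul p q => simp [TensorProduct.AlgebraTensorModule.distribBaseChange_tmul]
      | add p q hp hq => simp only [TensorProduct.tmul_add, map_add, hp, hq]
    have h2 : ι₂ (comul (R := k) (r₀ a)) =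
        TensorProduct.map (r' : K ⊗[k] A →ₐ[K] K ⊗[k] B).toLinearMap (r' : K ⊗[k] A →ₐ[K] K ⊗[k] B).toLinearMap
          (comul (R := K) ((1 : K) ⊗ₜ[k] a)) := by
      refine Eq.trans ?_ (CoalgHomClass.map_comp_comul_apply r' _).symm
      rw [hr₀]
      exact (hco _).symm
    rw [h2, hco]
    generalize comul (R := k) a = t
    induction t using TensorProduct.induction_on with
    | zero => simp
    | add p q hp hq => simp only [TensorProduct.tmul_add, map_add, hp, hq]
    | tmul p q =>
      simp [ι₂, TensorProduct.AlgebraTensorModule.distribBaseChange_tmul, hr₀]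

/-- A retraction over a larger field preserving the rational elements descends. -/
theorem descend_retr (r' : K ⊗[k] A →ₐc[K] K ⊗[k] B) (hr' : r'.comp (bcHom K ψ) = BialgHom.id K (K ⊗[k] B))
    (h : ∀ a : A, ∃ b : B, r' ((1 : K) ⊗ₜ[k] a) = (1 : K) ⊗ₜ[k] b) :
    ∃ r : A →ₐc[k] B, r.comp ψ = BialgHom.id k B := by
  obtain ⟨r, hr⟩ := descend_hom K r' h
  refine ⟨r, BialgHom.ext fun b => inR_injective (k := k) (A := B) K ?_⟩
  show (1 : K) ⊗ₜ[k] r (ψ b) = (1 : K) ⊗ₜ[k] b
  rw [← hr]
  exact congrArg (fun f : K ⊗[k] B →ₐc[K] K ⊗[k] B => f ((1 : K) ⊗ₜ[k] b)) hr'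

end Groth.Agent.DiagUnip
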