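import Groth.Agent.DiagUnip.Minimal
import Groth.Agent.Takeuchi.Points

/-!
# Additive functions on the kernel extend to the group
-/

set_option autoImplicit false
set_option backward.isDefEq.respectTransparency false

universe u

open TensorProduct Coalgebra WithConv

noncomputable section

namespace Groth.Agent.DiagUnip

open Groth.Agent.FlatSub Groth.Agent.Takeuchi Groth.Agent.FinHopf

variable {k : Type u} [Field k] {A : Type u} [CommRing A] [HopfAlgebra k A] {C : Subalgebra k A}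
  {R : Type u} [CommRing R] [Algebra k R]

/-- Products of points only depend on the restrictions to a sub-Hopf algebra. -/
theorem mul_congr_on (hC : IsSubHopf k C) {f f' g g' : Pt k A R} (hf : ∀ c ∈ C, f c = f' c)
    (hg : ∀ c ∈ C, g c = g' c) {c : A} (hc : c ∈ C) : (f * g) c = (f' * g') c := by
  obtain ⟨t, ht⟩ := hC.1 c hc
  rw [Takeuchi.mul_apply, Takeuchi.mul_apply, ← ht]
  clear ht
  induction t using TensorProduct.induction_on with
  | zero => simp
  | tmul x y => simp [hf _ x.2, hg _ y.2]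
  | add x y hx hy => simp only [map_add, hx, hy]

/-- Inverses of points only depend on the restrictions to a sub-Hopf algebra. -/
theorem inv_congr_on (hC : IsSubHopf k C) {f f' : Pt k A R} (hf : ∀ c ∈ C, f c = f' c) {c : A} (hc : c ∈ C) :
    f⁻¹ c = f'⁻¹ c := by
  rw [inv_apply, inv_apply, hf _ (hC.2 c hc)]

/-- The difference of the two projections, as a point. -/
def diffPt (C : Subalgebra k A) : Pt k A (A ⊗[C] A) :=
  (toConv (Algebra.TensorProduct.includeLeft : A →ₐ[k] A ⊗[C] A))⁻¹ *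
    toConv ((Algebra.TensorProduct.includeRight : A →ₐ[C] A ⊗[C] A).restrictScalars k)

theorem diffPt_of_mem (hC : IsSubHopf k C) {c : A} (hc : c ∈ C) :
    diffPt C c = algebraMap k _ (counit (R := k) c) := by
  rw [diffPt, mul_congr_on hC (f' := (toConv (Algebra.TensorProduct.includeLeft : A →ₐ[k] A ⊗[C] A))⁻¹)
    (g' := toConv (Algebra.TensorProduct.includeLeft : A →ₐ[k] A ⊗[C] A)) (fun x _ => rfl) ?_ hc, inv_mul_cancel,
    one_apply]
  intro x hx
  show (1 : A) ⊗ₜ[C] x = x ⊗ₜ[C] (1 : A)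
  rw [show x = (⟨x, hx⟩ : C) • (1 : A) by simp [Algebra.smul_def], ← TensorProduct.smul_tmul]

theorem diffPt_of_aug (hC : IsSubHopf k C) : ∀ a ∈ aug C, diffPt C a = 0 := by
  intro a ha
  refine RingHom.mem_ker.1 ((Ideal.span_le.2 ?_ : aug C ≤ RingHom.ker (diffPt C).ofConv.toRingHom) ha)
  rintro c ⟨hc, h0⟩
  show diffPt C c = 0
  rw [diffPt_of_mem hC hc, h0, map_zero]

/-- The translation map to the kernel. -/
def galois (hC : IsSubHopf k C) : A ⊗[C] A →ₐ[k] A ⊗[k] (A ⧸ aug C) :=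
  letI : Algebra C (A ⊗[k] (A ⧸ aug C)) := inferInstance
  let δ : A →ₐ[C] A ⊗[k] (A ⧸ aug C) :=
    { (Takeuchi.dbar (k := k) (aug C) : A →+* A ⊗[k] (A ⧸ aug C)) with
      commutes' := fun c => (dbar_of_mem hC c.2).trans (Algebra.TensorProduct.algebraMap_apply c).symm }
  (Algebra.TensorProduct.lift (Algebra.TensorProduct.includeLeft : A →ₐ[C] A ⊗[k] (A ⧸ aug C)) δ
    fun _ _ => Commute.all _ _).restrictScalars k

theorem galois_tmul (hC : IsSubHopf k C) (a b : A) :
    galois hC (a ⊗ₜ[C] b) = (a ⊗ₜ[k] (1 : A ⧸ aug C)) * Takeuchi.dbar (k := k) (aug C) b := by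
  simp [galois]

/-- Points of the kernel are additive on primitive elements. -/
theorem lift_add_of_prim {b : A} (hb : Algebra.TensorProduct.map (prj C) (prj C) (comul (R := k) b) =
      prj C b ⊗ₜ[k] (1 : A ⧸ aug C) + (1 : A ⧸ aug C) ⊗ₜ[k] prj C b)
    (φ ψ : Pt k A R) (hφ : ∀ a ∈ aug C, φ a = 0) (hψ : ∀ a ∈ aug C, ψ a = 0) : (φ * ψ) b = φ b + ψ b := by
  have h : ∀ t : A ⊗[k] A, Algebra.TensorProduct.lift φ.ofConv ψ.ofConv (fun _ _ => Commute.all _ _) t =
      Algebra.TensorProduct.lift (Ideal.Quotient.liftₐ (aug C) φ.ofConv hφ)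
        (Ideal.Quotient.liftₐ (aug C) ψ.ofConv hψ) (fun _ _ => Commute.all _ _)
        (Algebra.TensorProduct.map (prj C) (prj C) t) := by
    intro t
    induction t using TensorProduct.induction_on with
    | zero => simp
    | tmul x y => simp
    | add x y hx hy => simp only [map_add, hx, hy]
  rw [Takeuchi.mul_apply, h, hb, map_add, Algebra.TensorProduct.lift_tmul, Algebra.TensorProduct.lift_tmul, map_one,
    map_one, one_mul, mul_one]
  rfl

theorem galois_diffPt (hC : IsSubHopf k C) (b : A) : galois hC (diffPt C b) = (1 : A) ⊗ₜ[k] prj C b := by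
  let u : Pt k A (A ⊗[k] (A ⧸ aug C)) := push (Algebra.TensorProduct.includeLeft) (toConv (AlgHom.id k A))
  show push (R := A ⊗[C] A) (R' := A ⊗[k] (A ⧸ aug C)) (galois hC) (diffPt C) b = _
  rw [diffPt, push_mul, push_inv]
  have hl : push (R := A ⊗[C] A) (R' := A ⊗[k] (A ⧸ aug C)) (galois hC)
      (toConv (Algebra.TensorProduct.includeLeft : A →ₐ[k] A ⊗[C] A)) = u := by
    refine WithConv.ext (AlgHom.ext fun a => ?_)
    show galois hC (a ⊗ₜ[C] (1 : A)) = a ⊗ₜ[k] (1 : A ⧸ aug C)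
    rw [galois_tmul, map_one, mul_one]
  have hr : push (R := A ⊗[C] A) (R' := A ⊗[k] (A ⧸ aug C)) (galois hC)
      (toConv ((Algebra.TensorProduct.includeRight : A →ₐ[C] A ⊗[C] A).restrictScalars k)) =
      u * toConv ((Algebra.TensorProduct.includeRight : A ⧸ aug C →ₐ[k] A ⊗[k] (A ⧸ aug C)).comp (prj C)) := by
    refine WithConv.ext (AlgHom.ext fun a => ?_)
    refine Eq.trans ?_ (Takeuchi.mul_apply _ _ a).symm
    show galois hC ((1 : A) ⊗ₜ[C] a) = _
    rw [galois_tmul, ← Algebra.TensorProduct.one_def, one_mul]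
    show Algebra.TensorProduct.map (AlgHom.id k A) (prj C) (comul (R := k) a) = _
    generalize comul (R := k) a = t
    induction t using TensorProduct.induction_on with
    | zero => simp
    | tmul x y => simp [u]
    | add x y hx hy => simp only [map_add, hx, hy]
  rw [hl, hr, inv_mul_cancel_left]
  rfl

/-- **Lifting additive functions of the kernel.** -/
theorem exists_lift (hC : IsSubHopf k C) (b : A)
    (hb : Algebra.TensorProduct.map (prj C) (prj C) (comul (R := k) b) =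
      prj C b ⊗ₜ[k] (1 : A ⧸ aug C) + (1 : A ⧸ aug C) ⊗ₜ[k] prj C b) :
    ∃ f : A, Takeuchi.dbar (k := k) (aug C) f = f ⊗ₜ[k] (1 : A ⧸ aug C) + (1 : A) ⊗ₜ[k] prj C b := by
  haveI := Groth.Agent.FlatSub.faithfullyFlat hC
  let ω : A ⊗[C] A := diffPt C b
  -- the cocycle identity
  let i₁ : A →ₐ[k] A ⊗[C] A := Algebra.TensorProduct.includeLeft
  let i₂ : A →ₐ[k] A ⊗[C] A := (Algebra.TensorProduct.includeRight : A →ₐ[C] A ⊗[C] A).restrictScalars k
  let j₁ : A →ₐ[k] A ⊗[C] (A ⊗[C] A) := Algebra.TensorProduct.includeLeft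
  let jr : A ⊗[C] A →ₐ[k] A ⊗[C] (A ⊗[C] A) :=
    (Algebra.TensorProduct.includeRight : A ⊗[C] A →ₐ[C] A ⊗[C] (A ⊗[C] A)).restrictScalars k
  let e₁₂ : A ⊗[C] A →ₐ[k] A ⊗[C] (A ⊗[C] A) :=
    (Algebra.TensorProduct.map (AlgHom.id C A) (Algebra.TensorProduct.includeLeft : A →ₐ[C] A ⊗[C] A)).restrictScalars k
  let e₁₃ : A ⊗[C] A →ₐ[k] A ⊗[C] (A ⊗[C] A) :=
    (Algebra.TensorProduct.map (AlgHom.id C A) (Algebra.TensorProduct.includeRight : A →ₐ[C] A ⊗[C] A)).restrictScalars k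
  have hsplit : push (R := A ⊗[C] A) (R' := A ⊗[C] (A ⊗[C] A)) e₁₃ (diffPt C) = push (R := A ⊗[C] A) (R' := A ⊗[C] (A ⊗[C] A)) e₁₂ (diffPt C) * push (R := A ⊗[C] A) (R' := A ⊗[C] (A ⊗[C] A)) jr (diffPt C) := by
    let g₁ : Pt k A (A ⊗[C] (A ⊗[C] A)) := toConv j₁
    let g₂ : Pt k A (A ⊗[C] (A ⊗[C] A)) := toConv (jr.comp i₁)
    let g₃ : Pt k A (A ⊗[C] (A ⊗[C] A)) := toConv (jr.comp i₂)
    have h12 : push (R := A ⊗[C] A) (R' := A ⊗[C] (A ⊗[C] A)) e₁₂ (diffPt C) = g₁⁻¹ * g₂ := by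
      rw [diffPt, push_mul, push_inv]
      congr 1
    have h13 : push (R := A ⊗[C] A) (R' := A ⊗[C] (A ⊗[C] A)) e₁₃ (diffPt C) = g₁⁻¹ * g₃ := by
      rw [diffPt, push_mul, push_inv]
      congr 1
    have h23 : push (R := A ⊗[C] A) (R' := A ⊗[C] (A ⊗[C] A)) jr (diffPt C) = g₂⁻¹ * g₃ := by
      rw [diffPt, push_mul, push_inv]
    rw [h12, h13, h23, mul_assoc, mul_inv_cancel_left]
  have hcoc : e₁₃ ω = e₁₂ ω + jr ω := by
    show push (R := A ⊗[C] A) (R' := A ⊗[C] (A ⊗[C] A)) e₁₃ (diffPt C) b = e₁₂ ω + jr ω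
    rw [hsplit]
    refine (lift_add_of_prim hb _ _ (fun a ha => ?_) (fun a ha => ?_)).trans rfl
    · show e₁₂ (diffPt C a) = 0
      rw [diffPt_of_aug hC a ha, map_zero]
    · show jr (diffPt C a) = 0
      rw [diffPt_of_aug hC a ha, map_zero]
  -- descend along `C → A`
  let d : A →ₗ[C] A ⊗[C] A :=
    (Algebra.TensorProduct.includeRight : A →ₐ[C] A ⊗[C] A).toLinearMap -
      (Algebra.TensorProduct.includeLeft : A →ₐ[C] A ⊗[C] A).toLinearMap
  have hd : d.lTensor A ω = (1 : A) ⊗ₜ[C] ω := by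
    have h : ∀ z : A ⊗[C] A, d.lTensor A z = e₁₃ z - e₁₂ z := by
      intro z
      induction z using TensorProduct.induction_on with
      | zero => simp
      | tmul x y => simp [d, e₁₂, e₁₃, TensorProduct.tmul_sub]
      | add x y hx hy => simp only [map_add, hx, hy]; abel
    rw [h, hcoc, add_sub_cancel_left]
    rfl
  obtain ⟨f, hf⟩ : ω ∈ LinearMap.range d := by
    let N : Submodule C (A ⊗[C] A) := LinearMap.range d
    have h1 : (1 : A) ⊗ₜ[C] N.mkQ ω = 0 := by
      rw [← LinearMap.lTensor_tmul, ← hd, ← LinearMap.lTensor_comp_apply,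
        show N.mkQ ∘ₗ d = 0 from LinearMap.ext fun x => (Submodule.Quotient.mk_eq_zero N).2 ⟨x, rfl⟩]
      simp
    exact (Submodule.Quotient.mk_eq_zero N).1
      (Module.FaithfullyFlat.tensorProduct_mk_injective (A := C) (B := A) ((A ⊗[C] A) ⧸ N) (by simpa using h1))
  refine ⟨f, ?_⟩
  have hΘ : galois hC ω = (1 : A) ⊗ₜ[k] prj C b := galois_diffPt hC b
  have h2 : galois hC (d f) = Takeuchi.dbar (k := k) (aug C) f - f ⊗ₜ[k] (1 : A ⧸ aug C) := by
    show galois hC ((1 : A) ⊗ₜ[C] f - f ⊗ₜ[C] (1 : A)) = _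
    rw [map_sub, galois_tmul, galois_tmul, ← Algebra.TensorProduct.one_def, one_mul, map_one, mul_one]
  rw [hf, hΘ] at h2
  rw [h2]
  abel

end Groth.Agent.DiagUnip
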