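import Groth.Agent.DiagUnip.Cocycle
import Groth.Agent.UnipFilt.Basic
import Groth.Agent.Takeuchi.Inv
import Groth.Agent.Comod.Change
import Groth.Agent.HopfRange.Basic
import Groth.Prelude.Def_ComodSub
import Mathlib.RingTheory.Bialgebra.Quotient

/-!
# Kernels of sub-Hopf algebras and eigenvectors for unipotent-by-diagonalisable groups
-/

set_option autoImplicit false
set_option backward.isDefEq.respectTransparency false

universe u

open TensorProduct Coalgebra

noncomputable section

namespace Groth.Agent.DiagUnip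

open Groth.Agent.Comod Groth.Agent.FlatSub

variable {k : Type u} [Field k] {A : Type u} [CommRing A] [HopfAlgebra k A]

/-- The ideal of the kernel. -/
abbrev aug (C : Subalgebra k A) : Ideal A := SGA3.augIdealSpan k A C

/-- The projection to the kernel. -/
abbrev prj (C : Subalgebra k A) : A →ₐ[k] A ⧸ aug C := Ideal.Quotient.mkₐ k (aug C)

variable {C : Subalgebra k A}

theorem prj_of_mem {c : A} (hc : c ∈ C) : prj C c = algebraMap k _ (counit (R := k) c) := by
  rw [← (prj C).commutes]
  refine Ideal.Quotient.eq.2 (Ideal.subset_span ⟨C.sub_mem hc (C.algebraMap_mem _), ?_⟩)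
  simp [Bialgebra.counit_algebraMap]

theorem dbar_of_mem (hC : IsSubHopf k C) {c : A} (hc : c ∈ C) :
    Takeuchi.dbar (k := k) (aug C) c = c ⊗ₜ[k] (1 : A ⧸ aug C) := by
  obtain ⟨t, ht⟩ := hC.1 c hc
  show Algebra.TensorProduct.map (AlgHom.id k A) (prj C) (comul (R := k) c) = _
  have h : ∀ t : C ⊗[k] C,
      Algebra.TensorProduct.map (AlgHom.id k A) (prj C) (TensorProduct.map C.val.toLinearMap C.val.toLinearMap t) =
        (TensorProduct.rid k A ((counit (R := k) (A := A)).lTensor A
          (TensorProduct.map C.val.toLinearMap C.val.toLinearMap t))) ⊗ₜ[k] (1 : A ⧸ aug C) := by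
    intro t
    induction t using TensorProduct.induction_on with
    | zero => simp
    | tmul x y =>
      simp only [TensorProduct.map_tmul, AlgHom.toLinearMap_apply, Subalgebra.coe_val,
        Algebra.TensorProduct.map_tmul, AlgHom.id_apply, LinearMap.lTensor_tmul, TensorProduct.rid_tmul]
      rw [prj_of_mem y.2, Algebra.algebraMap_eq_smul_one, TensorProduct.tmul_smul, TensorProduct.smul_tmul']
    | add x y hx hy => simp only [map_add, hx, hy, TensorProduct.add_tmul]
  rw [← ht, h, ht, Coalgebra.lTensor_counit_comul, TensorProduct.rid_tmul, one_smul]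

/-- The invariants of the kernel are the sub-Hopf algebra. -/
theorem mem_of_dbar (hC : IsSubHopf k C) {a : A}
    (ha : Takeuchi.dbar (k := k) (aug C) a = a ⊗ₜ[k] (1 : A ⧸ aug C)) : a ∈ C := by
  refine UnipFilt.coinv_mem hC (aug C) le_rfl ?_
  have hex := Module.Flat.lTensor_exact A
    (LinearMap.exact_subtype_mkQ ((aug C).restrictScalars k))
  refine (hex _).1 ?_
  have h : ∀ t : A ⊗[k] A, (((aug C).restrictScalars k).mkQ).lTensor A t =
      Algebra.TensorProduct.map (AlgHom.id k A) (prj C) t := by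
    intro t
    induction t using TensorProduct.induction_on with
    | zero => simp
    | tmul x y => rfl
    | add x y hx hy => simp only [map_add, hx, hy]
  rw [map_sub, h, h, sub_eq_zero]
  refine ha.trans ?_
  simp

/-- The kernel is a coideal. -/
theorem prj_prj_comul (hC : IsSubHopf k C) {a : A} (ha : a ∈ aug C) :
    Algebra.TensorProduct.map (prj C) (prj C) (comul (R := k) a) = 0 := by
  refine RingHom.mem_ker.1 ((Ideal.span_le.2 ?_ : _ ≤ RingHom.ker
    ((Algebra.TensorProduct.map (prj C) (prj C)).comp (Bialgebra.comulAlgHom k A)).toRingHom) ha)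
  rintro c ⟨hc, h0⟩
  show Algebra.TensorProduct.map (prj C) (prj C) (comul (R := k) c) = 0
  have h : ∀ t : A ⊗[k] A, Algebra.TensorProduct.map (prj C) (prj C) t =
      Algebra.TensorProduct.map (prj C) (AlgHom.id k (A ⧸ aug C))
        (Algebra.TensorProduct.map (AlgHom.id k A) (prj C) t) := by
    intro t
    induction t using TensorProduct.induction_on with
    | zero => simp
    | tmul x y => simp
    | add x y hx hy => simp only [map_add, hx, hy]
  rw [h, show Algebra.TensorProduct.map (AlgHom.id k A) (prj C) (comul (R := k) c) = _ from dbar_of_mem hC hc,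
    Algebra.TensorProduct.map_tmul, prj_of_mem hc, h0, map_zero, TensorProduct.zero_tmul]

variable {B : Type u} [CommRing B] [HopfAlgebra k B] {M : Type u} [CommGroup M] (G : GBasis k B M)
  (ψ : B →ₐc[k] A) (hψ : Function.Injective ψ)
  (J : Ideal A) [J.IsHopfIdeal k] (hJ : J = Ideal.map (ψ : B →+* A) (RingHom.ker (Bialgebra.counitAlgHom k B)))
  (hU : HopfRep.IsUnipotent k (A ⧸ J))

include hψ hJ in
/-- A vector fixed by the kernel and detected by a functional has such an eigencomponent. -/
theorem exists_eigen_of_fixed {V : Type u} [AddCommGroup V] [Module k V] [c : HopfRep.Comod k A V]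
    {W : Submodule k V} (hW : HopfRep.IsSubcomod (k := k) (A := A) W) {v : V} (hvW : v ∈ W) (θ₀ : V →ₗ[k] k)
    (hv : θ₀ v ≠ 0)
    (hfix : (Ideal.Quotient.mkₐ k J).toLinearMap.lTensor V (HopfRep.Comod.coact (k := k) (A := A) v) =
      v ⊗ₜ[k] (1 : A ⧸ J)) :
    ∃ v' ∈ W, θ₀ v' ≠ 0 ∧ ∃ m : M, HopfRep.Comod.coact (k := k) (A := A) v' = v' ⊗ₜ[k] ψ (G.e m) := by
  classical
  let π : A →ₐc[k] A ⧸ J := Bialgebra.Quotient.mkBialgHom J
  let ψA : B →ₗ[k] A := (ψ : B →ₐ[k] A).toLinearMap
  obtain ⟨L, hL⟩ := ψA.exists_leftInverse_of_injective (LinearMap.ker_eq_bot.2 hψ)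
  have hL' : ∀ b, L (ψ b) = b := fun b => LinearMap.congr_fun hL b
  -- coefficients are in the diagonalisable quotient
  have hcoef : ∀ φ : V →ₗ[k] k, ∃ x : B, ψ x = cL φ (HopfRep.Comod.coact (k := k) (A := A) v) := by
    intro φ
    refine UnipFilt.coinv_mem (HopfRange.isSubHopf_range ψ) J ?_ ?_
    · rw [hJ, Ideal.map_le_iff_le_comap]
      exact fun b hb => Ideal.subset_span ⟨⟨b, rfl⟩, (CoalgHomClass.counit_comp_apply ψ b).trans hb⟩
    · rw [mem_range_lTensor_iff]
      intro θ
      rw [map_sub, cL_comul, cL_tmul]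
      have e1 : π (cL (φ ∘ₗ dact k A V (WithConv.toConv θ)) (HopfRep.Comod.coact (k := k) (A := A) v)) =
          cL (φ ∘ₗ dact k A V (WithConv.toConv θ)) (v ⊗ₜ[k] (1 : A ⧸ J)) := by
        rw [← hfix, cL_lTensor]; rfl
      rw [cL_tmul] at e1
      refine Ideal.Quotient.eq.1 (e1.trans ?_)
      rw [show Ideal.Quotient.mk J (θ (cL φ (HopfRep.Comod.coact (k := k) (A := A) v)) • (1 : A)) =
        θ (cL φ (HopfRep.Comod.coact (k := k) (A := A) v)) • (1 : A ⧸ J) from rfl]
      congr 1
      exact (apply_cL_coact (WithConv.toConv θ) φ v).symm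
  let f : M → CDual k A := fun m => WithConv.toConv (Finsupp.lapply m ∘ₗ G.e.repr.toLinearMap ∘ₗ L)
  let vm : M → V := fun m => dact k A V (f m) v
  have hm : ∀ m, HopfRep.Comod.coact (k := k) (A := A) (vm m) = vm m ⊗ₜ[k] ψ (G.e m) := by
    intro m
    refine tensor_eq_of_cL fun φ => ?_
    obtain ⟨x, hx⟩ := hcoef φ
    rw [cL_tmul, ← apply_cL_coact (f m) φ v, ← coeff_smul, ← hx]
    show cR (f m).ofConv (comul (R := k) (ψ x)) = _
    rw [HopfRange.comul_map]
    have h3 : ∀ t : B ⊗[k] B, cR (f m).ofConv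
        (TensorProduct.map (ψ : B →ₐ[k] A).toLinearMap (ψ : B →ₐ[k] A).toLinearMap t) =
        ψA (cR (Finsupp.lapply m ∘ₗ G.e.repr.toLinearMap) t) := by
      intro t
      induction t using TensorProduct.induction_on with
      | zero => simp
      | tmul p q => simp [f, ψA, hL']
      | add p q hp hq => simp only [map_add, hp, hq]
    rw [h3]
    have h4 : cR (Finsupp.lapply m ∘ₗ G.e.repr.toLinearMap) (comul (R := k) x) = G.e.repr x m • G.e m := by
      refine G.e.repr.injective (Finsupp.ext fun l => ?_)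
      have h5 : ∀ t : B ⊗[k] B, G.e.repr (cR (Finsupp.lapply m ∘ₗ G.e.repr.toLinearMap) t) l = G.cf t l m := by
        intro t
        induction t using TensorProduct.induction_on with
        | zero => simp [GBasis.cf]
        | tmul p q => simp [G.cf_tmul, mul_comm]
        | add p q hp hq => simp only [map_add, Finsupp.add_apply, hp, hq, GBasis.cf_add]
      rw [h5, G.cf_comul, map_smul, Finsupp.smul_apply, G.repr_e]
      split_ifs with h6 <;> simp_all
    rw [h4, map_smul]
    simp [f, hL', ψA]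
  by_contra hnone
  push Not at hnone
  have hz : ∀ m, θ₀ (vm m) = 0 := fun m => by
    by_contra h
    exact hnone _ (isSubcomod_iff.1 hW _ _ hvW) h m (hm m)
  obtain ⟨x, hx⟩ := hcoef θ₀
  have hx0 : x = 0 := G.e.repr.injective (Finsupp.ext fun m => by
    have := apply_cL_coact (f m) θ₀ v
    rw [show θ₀ (dact k A V (f m) v) = 0 from hz m, ← hx] at this
    simpa [f, hL'] using this)
  have h0 := congr(TensorProduct.rid k V ($(HopfRep.Comod.counit_comp (k := k) (A := A) (V := V)) v))
  have h1 : counit (R := k) (cL θ₀ (HopfRep.Comod.coact (k := k) (A := A) v)) = θ₀ v := by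
    rw [cR_cL]; congr 1; simpa [cR] using h0
  refine hv ?_
  rw [← h1, ← hx, hx0, map_zero, map_zero]

include hψ hJ hU in
/-- A nonzero stable subspace contains an eigenvector with weight in the diagonalisable quotient. -/
theorem exists_eigen {V : Type u} [AddCommGroup V] [Module k V] [c : HopfRep.Comod k A V] {W : Submodule k V}
    (hW : HopfRep.IsSubcomod (k := k) (A := A) W) (hne : W ≠ ⊥) :
    ∃ v ∈ W, v ≠ 0 ∧ ∃ m : M, HopfRep.Comod.coact (k := k) (A := A) v = v ⊗ₜ[k] ψ (G.e m) := by
  obtain ⟨v₀, hv₀, hv₀ne⟩ := (Submodule.ne_bot_iff _).1 hne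
  obtain ⟨S, hS, hfin⟩ := exists_finite_subcomod (K := k) (C := A) (V := V) v₀
  -- shrink to the subspace `W ⊓ S`
  let W' : Submodule k V := W ⊓ ofDSub S
  have hW' : HopfRep.IsSubcomod (k := k) (A := A) W' := isSubcomod_iff.2 fun f w hw =>
    ⟨isSubcomod_iff.1 hW f w hw.1, isSubcomod_iff.1 (isSubcomod_ofDSub S) f w hw.2⟩
  haveI : Module.Finite k W' := Submodule.finiteDimensional_of_le (S₂ := ofDSub S) inf_le_right
  haveI : Nontrivial W' := ⟨⟨v₀, hv₀, hS⟩, 0, fun h => hv₀ne (congrArg Subtype.val h)⟩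
  let π : A →ₐc[k] A ⧸ J := Bialgebra.Quotient.mkBialgHom J
  obtain ⟨w, hw, hw0⟩ := (Submodule.ne_bot_iff _).1
    (@hU W' _ _ (pushforward π.toCoalgHom (ComodSub.Comod.restr c W' hW')) inferInstance inferInstance)
  let v : V := w
  have hvne : v ≠ 0 := fun h => hw0 (Subtype.ext h)
  have hfix : (π.toLinearMap).lTensor V (HopfRep.Comod.coact (k := k) (A := A) v) = v ⊗ₜ[k] (1 : A ⧸ J) := by
    have h1 := ComodSub.restr_coact_coe c W' hW' w
    have h2 : (π.toLinearMap).lTensor W' ((ComodSub.Comod.restr c W' hW').coact w) = w ⊗ₜ[k] (1 : A ⧸ J) := hw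
    rw [show v = W'.subtype w from rfl]
    rw [show HopfRep.Comod.coact (k := k) (A := A) (W'.subtype w) = _ from h1.symm,
      ← LinearMap.comp_apply, LinearMap.lTensor_comp_rTensor, ← LinearMap.rTensor_comp_lTensor,
      LinearMap.comp_apply, h2, LinearMap.rTensor_tmul]
  obtain ⟨θ₀, hθ⟩ : ∃ θ₀ : V →ₗ[k] k, θ₀ v ≠ 0 := by
    by_contra h
    push Not at h
    exact hvne ((Module.forall_dual_apply_eq_zero_iff k v).1 h)
  obtain ⟨v', hv'W, hne', hm⟩ := exists_eigen_of_fixed G ψ hψ J hJ hW (v := v) w.2.1 θ₀ hθ hfix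
  exact ⟨v', hv'W, fun h => hne' (by rw [h, map_zero]), hm⟩

end Groth.Agent.DiagUnip
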