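import Groth.Agent.FinHopf.Frobenius
import Groth.Agent.FinHopf.PerfTensor
import Groth.Agent.HopfOmega.Basic
import Groth.Agent.S7623
import Groth.Agent.SmoothRed.Basic
import Groth.Agent.DiagUnip.Eigen
import Mathlib.RingTheory.Smooth.Kaehler
import Mathlib.FieldTheory.Perfect

/-!
# Primitive functions on reduced groups: roots and reducedness of their kernels
-/

set_option autoImplicit false
set_option backward.isDefEq.respectTransparency false

universe u

open TensorProduct Coalgebra

noncomputable section

namespace Groth.Agent.DiagUnip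

variable {k : Type u} [Field k] {K : Type u} [CommRing K] [HopfAlgebra k K]

/-- A primitive element. -/
def IsPrim (q : K) : Prop := comul (R := k) q = q ⊗ₜ[k] (1 : K) + (1 : K) ⊗ₜ[k] q

/-- The square of the augmentation ideal is killed by derivations at primitive elements. -/
theorem deriv_prim_eq_zero (D : Derivation k K K) {q : K} (hq : IsPrim (k := k) q) (h2 : q ∈ FinHopf.aug k K ^ 2) :
    D q = 0 := by
  let θ : K →ₗ[k] K := LinearMap.mul' k K ∘ₗ TensorProduct.map (HopfAlgebra.antipode k) D.toLinearMap ∘ₗ comul (R := k)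
  let α : K ⊗[k] K →ₐ[k] K := Algebra.TensorProduct.lift (HopfAlgebra.antipodeAlgHom k K) (AlgHom.id k K)
    fun _ _ => Commute.all _ _
  let β : K ⊗[k] K →ₗ[k] K := LinearMap.mul' k K ∘ₗ TensorProduct.map (HopfAlgebra.antipode k) D.toLinearMap
  have hα : ∀ a : K, α (comul (R := k) a) = algebraMap k K (counit (R := k) a) := by
    intro a
    rw [← HopfAlgebra.mul_antipode_rTensor_comul_apply]
    generalize comul (R := k) a = t
    induction t using TensorProduct.induction_on with
    | zero => simp
    | tmul x y => simp [α]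
    | add x y hx hy => simp only [map_add, hx, hy]
  have hβ : ∀ s t : K ⊗[k] K, β (s * t) = α s * β t + α t * β s := by
    intro s t
    induction s using TensorProduct.induction_on with
    | zero => simp
    | add a b ha hb => simp only [add_mul, map_add, ha, hb]; ring
    | tmul x y =>
      induction t using TensorProduct.induction_on with
      | zero => simp
      | add a b ha hb => simp only [mul_add, map_add, ha, hb]; ring
      | tmul z w =>
        simp [α, β, HopfAlgebra.antipode_mul_distrib]
        ring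
  have hθ : ∀ a b : K, θ (a * b) = algebraMap k K (counit (R := k) a) * θ b +
      algebraMap k K (counit (R := k) b) * θ a := by
    intro a b
    show β (comul (R := k) (a * b)) = _
    rw [Bialgebra.comul_mul, hβ, hα, hα]
    rfl
  have h0 : θ q = 0 := by
    rw [pow_two] at h2
    refine Submodule.mul_induction_on (C := fun z => θ z = 0) h2 (fun a ha b hb => ?_)
      fun a b ha hb => by rw [map_add, ha, hb, add_zero]
    rw [hθ, FinHopf.mem_aug.1 ha, FinHopf.mem_aug.1 hb, map_zero, zero_mul, zero_mul, add_zero]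
  rw [← h0]
  show D q = LinearMap.mul' k K (TensorProduct.map (HopfAlgebra.antipode k) D.toLinearMap (comul (R := k) q))
  rw [hq]
  simp

section HeightOne

variable (p : ℕ) [hp : Fact p.Prime] [CharP k p]

/-- On a finite group of height one, a primitive element of order two vanishes. -/
theorem heightOne_prim {A : Type u} [CommRing A] [HopfAlgebra k A] [Module.Finite k A]
    (h1 : ∀ x ∈ FinHopf.aug k A, x ^ p = 0) {q : A} (hq : IsPrim (k := k) q)
    (h2 : q ∈ FinHopf.aug k A ^ 2) : q = 0 := by
  classical
  have hA : FinHopf.IsInfinitesimal k A := fun x hx => ⟨p, h1 x hx⟩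
  obtain ⟨d, x, D, hx, hD, hgen, hfin⟩ := FinHopf.exists_coords_finrank_eq_pow p h1
  let Φ : MvPolynomial (Fin d) k →ₐ[k] A := MvPolynomial.aeval x
  have hDΦ : ∀ j f, D j (Φ f) = Φ (MvPolynomial.pderiv j f) := by
    intro j f
    induction f using MvPolynomial.induction_on with
    | C a => simp [Φ]
    | add f g hf hg => simp [hf, hg]
    | mul_X f i hf =>
      rw [map_mul, Derivation.leibniz, hf, Derivation.leibniz, smul_eq_mul, smul_eq_mul, map_add]
      simp [Φ, hD, MvPolynomial.pderiv_X, Pi.single_apply, eq_comm, apply_ite]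
  have hindep : ∀ n (f : MvPolynomial (Fin d) k), Φ f = 0 → ∀ α : Fin d →₀ ℕ,
      (∀ i, α i < p) → ∑ i, α i = n → f.coeff α = 0 := by
    intro n
    induction n with
    | zero =>
      intro f hf α _ hα
      obtain rfl : α = 0 := by
        ext i; exact Finset.sum_eq_zero_iff.mp hα i (Finset.mem_univ _)
      have := congr(counit (R := k) $hf)
      rw [map_zero] at this
      rw [← MvPolynomial.constantCoeff_eq, ← this]
      have hcc : (Bialgebra.counitAlgHom k A).comp Φ = MvPolynomial.aeval (0 : Fin d → k) := by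
        refine MvPolynomial.algHom_ext fun i => ?_
        simp [Φ, FinHopf.mem_aug.mp (hx i)]
      rw [show counit (R := k) (Φ f) = (Bialgebra.counitAlgHom k A).comp Φ f from rfl, hcc,
        MvPolynomial.aeval_zero]
      simp
    | succ n ih =>
      intro f hf α hlt hα
      obtain ⟨j, hj⟩ : ∃ j, α j ≠ 0 := by
        by_contra! h
        simp [h] at hα
      have hle : Finsupp.single j 1 ≤ α := by
        rw [Finsupp.single_le_iff]; omega
      have hsum : ∑ i, (α - Finsupp.single j 1 : Fin d →₀ ℕ) i + 1 = ∑ i, α i := by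
        conv_rhs => rw [← tsub_add_cancel_of_le hle]
        simp [Finset.sum_add_distrib]
      have h := ih (MvPolynomial.pderiv j f) (by rw [← hDΦ, hf, map_zero]) (α - Finsupp.single j 1)
        (fun i => lt_of_le_of_lt (by simp) (hlt i)) (by omega)
      rw [MvPolynomial.coeff_pderiv, tsub_add_cancel_of_le hle] at h
      refine (mul_eq_zero.mp h).resolve_right ?_
      have hh : (α - Finsupp.single j 1 : Fin d →₀ ℕ) j + 1 = α j := by simp; omega
      rw [← Nat.cast_add_one, hh, CharP.cast_eq_zero_iff k p]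
      exact fun hdvd => hj (Nat.eq_zero_of_dvd_of_lt hdvd (hlt j))
  let mon : (Fin d → Fin p) → (Fin d →₀ ℕ) := fun α => Finsupp.equivFunOnFinite.symm fun i => (α i : ℕ)
  let L : ((Fin d → Fin p) → k) →ₗ[k] A := Fintype.linearCombination k fun α => Φ (MvPolynomial.monomial (mon α) 1)
  have hLapp : ∀ c, L c = Φ (∑ α, MvPolynomial.monomial (mon α) (c α)) := by
    intro c
    rw [map_sum]
    show ∑ α, c α • Φ _ = _
    refine Finset.sum_congr rfl fun α _ => ?_
    rw [← map_smul, MvPolynomial.smul_monomial, smul_eq_mul, mul_one]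
  have hcoeff : ∀ (c : (Fin d → Fin p) → k) (β : Fin d → Fin p),
      (∑ α, MvPolynomial.monomial (mon α) (c α)).coeff (mon β) = c β := by
    intro c β
    rw [MvPolynomial.coeff_sum, Finset.sum_eq_single β]
    · simp
    · intro α _ hα
      rw [MvPolynomial.coeff_monomial, if_neg fun h => hα (funext fun i => Fin.ext (DFunLike.congr_fun h i))]
    · simp
  have hLi : Function.Injective L := by
    rw [injective_iff_map_eq_zero]
    intro c hc
    funext β
    rw [← hcoeff c β]
    exact hindep _ _ ((hLapp c).symm.trans hc) _ (fun i => (β i).2) rfl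
  have hLs : Function.Surjective L := (LinearMap.injective_iff_surjective_of_finrank_eq_finrank (by
    rw [hfin, Module.finrank_pi]; simp)).1 hLi
  obtain ⟨c, hc⟩ := hLs q
  have hc0 : ∀ β : Fin d → Fin p, (∃ j, (β j : ℕ) ≠ 0) → c β = 0 := by
    rintro β ⟨j, hj⟩
    have h0 : Φ (MvPolynomial.pderiv j (∑ α, MvPolynomial.monomial (mon α) (c α))) = 0 := by
      rw [← hDΦ, ← hLapp, hc]
      exact deriv_prim_eq_zero _ hq h2
    have hle : Finsupp.single j 1 ≤ mon β := by
      rw [Finsupp.single_le_iff]; simp [mon]; omega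
    have h := hindep _ _ h0 (mon β - Finsupp.single j 1) (fun i => lt_of_le_of_lt (by simp [mon]) (β i).2) rfl
    rw [MvPolynomial.coeff_pderiv, tsub_add_cancel_of_le hle, hcoeff] at h
    refine (mul_eq_zero.mp h).resolve_right ?_
    have hh : (mon β - Finsupp.single j 1 : Fin d →₀ ℕ) j + 1 = (β j : ℕ) := by simp [mon]; omega
    rw [← Nat.cast_add_one, hh, CharP.cast_eq_zero_iff k p]
    exact fun hdvd => hj (Nat.eq_zero_of_dvd_of_lt hdvd (β j).2)
  have hq0 : counit (R := k) q = 0 := FinHopf.mem_aug.1 (Ideal.pow_le_self two_ne_zero h2)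
  have hcon : q = algebraMap k A (c fun _ => ⟨0, hp.out.pos⟩) := by
    rw [← hc, hLapp, Finset.sum_eq_single (fun _ => ⟨0, hp.out.pos⟩)]
    · rw [show mon (fun _ => ⟨0, hp.out.pos⟩) = 0 from Finsupp.ext fun i => rfl]
      simp [Φ]
    · intro β _ hβ
      rw [hc0 β ?_, map_zero]
      by_contra h
      push Not at h
      exact hβ (funext fun i => Fin.ext (h i))
    · simp
  rw [hcon, Bialgebra.counit_algebraMap] at hq0
  rw [hcon, hq0, map_zero]

variable [PerfectField k] [Algebra.FiniteType k K] [IsReduced K]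

omit [IsReduced K] in
/-- A primitive element of order two is a `p`-th power. -/
theorem exists_eq_pow {q : K} (hq : IsPrim (k := k) q) (h2 : q ∈ FinHopf.aug k K ^ 2) : ∃ v : K, v ^ p = q := by
  let I := FinHopf.frobIdeal k K p
  haveI : CharP K p := FinHopf.charP_of_algHom (Bialgebra.counitAlgHom k K) p
  haveI : Algebra.IsIntegral k (K ⧸ I) := ⟨fun h => by
    refine IsIntegral.of_pow hp.out.pos ?_
    rw [FinHopf.quot_pow_p p h]
    exact isIntegral_algebraMap⟩
  haveI : Module.Finite k (K ⧸ I) := Algebra.IsIntegral.finite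
  let mk : K →ₐc[k] K ⧸ I := Bialgebra.Quotient.mkBialgHom I
  have hprim : IsPrim (k := k) (mk q) := by
    show comul (R := k) (mk q) = _
    rw [HopfRange.comul_map, hq]
    simp
  have haug : ∀ x ∈ FinHopf.aug k K, mk x ∈ FinHopf.aug k (K ⧸ I) := fun x hx =>
    FinHopf.mem_aug.2 ((CoalgHomClass.counit_comp_apply mk x).trans (FinHopf.mem_aug.1 hx))
  have h1 : ∀ x ∈ FinHopf.aug k (K ⧸ I), x ^ p = 0 := by
    intro x hx
    rw [FinHopf.quot_pow_p p x]
    obtain ⟨a, rfl⟩ := Ideal.Quotient.mk_surjective x
    rw [FinHopf.frobCounit_mk, show counit (R := k) a = 0 from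
      (CoalgHomClass.counit_comp_apply mk a).symm.trans (FinHopf.mem_aug.1 hx), zero_pow hp.out.ne_zero, map_zero]
  have h2' : mk q ∈ FinHopf.aug k (K ⧸ I) ^ 2 := by
    have h := Ideal.mem_map_of_mem (mk : K →+* K ⧸ I) h2
    rw [Ideal.map_pow] at h
    refine Ideal.pow_right_mono (Ideal.map_le_iff_le_comap.2 fun x hx => ?_) 2 h
    exact haug x hx
  have hI : q ∈ I := Ideal.Quotient.eq_zero_iff_mem.1 (heightOne_prim p h1 hprim h2')
  -- the subalgebra of `p`-th powers
  let P : Subalgebra k K := FinHopf.frobSub k K p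
  have hP : FlatSub.IsSubHopf k P := ⟨fun b hb => by
    obtain ⟨t, ht⟩ := FinHopf.frobSub_comul p b hb
    exact ⟨t, ht⟩, FinHopf.frobSub_antipode p⟩
  have hIP : I ≤ aug P := Ideal.span_le.2 fun _ ⟨x, hx, hxp⟩ => Ideal.subset_span ⟨hxp ▸ FinHopf.pow_mem_frobSub p x, by
    subst hxp
    show Bialgebra.counitAlgHom k K (x ^ p) = 0
    rw [map_pow, show Bialgebra.counitAlgHom k K x = 0 from hx, zero_pow hp.out.ne_zero]⟩
  have hqP : q ∈ P := by
    refine mem_of_dbar hP ?_
    show Algebra.TensorProduct.map (AlgHom.id k K) (prj P) (comul (R := k) q) = _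
    rw [hq, map_add, Algebra.TensorProduct.map_tmul, Algebra.TensorProduct.map_tmul,
      show prj P q = 0 from Ideal.Quotient.eq_zero_iff_mem.2 (hIP hI)]
    simp
  haveI := PerfectField.toPerfectRing (K := k) p
  let R : Subalgebra k K :=
    { (frobenius K p).range with
      algebraMap_mem' := fun r => by
        obtain ⟨s, hs⟩ := surjective_frobenius k p r
        exact ⟨algebraMap k K s, by rw [frobenius_def, ← map_pow, ← hs, frobenius_def]⟩ }
  have hPR : P ≤ R := Algebra.adjoin_le (by rintro _ ⟨x, rfl⟩; exact ⟨x, frobenius_def ..⟩)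
  obtain ⟨v, hv⟩ := hPR hqP
  exact ⟨v, hv⟩

/-- The root of a primitive element is primitive. -/
theorem exists_prim_root {q : K} (hq : IsPrim (k := k) q) (h2 : q ∈ FinHopf.aug k K ^ 2) :
    ∃ v : K, v ^ p = q ∧ IsPrim (k := k) v := by
  obtain ⟨v, rfl⟩ := exists_eq_pow p hq h2
  refine ⟨v, rfl, ?_⟩
  haveI : IsReduced (K ⊗[k] K) := FinHopf.isReduced_tensor_of_perfect k K K
  haveI : CharP (K ⊗[k] K) p := FinHopf.charP_of_algHom (Bialgebra.counitAlgHom k (K ⊗[k] K)) p
  refine sub_eq_zero.1 (IsNilpotent.eq_zero ⟨p, ?_⟩)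
  rw [sub_pow_char, add_pow_char, Algebra.TensorProduct.tmul_pow, Algebra.TensorProduct.tmul_pow, one_pow,
    show comul (R := k) v ^ p = comul (R := k) (v ^ p) from (map_pow (Bialgebra.comulAlgHom k K) v p).symm, hq,
    sub_self]

end HeightOne

/-- The kernel of a primitive function with nonzero differential on a reduced group is reduced. -/
theorem isReduced_quot_span [PerfectField k] [Algebra.FiniteType k K] [IsReduced K] {q : K}
    (hq : IsPrim (k := k) q) (h0 : counit (R := k) q = 0) (h2 : q ∉ FinHopf.aug k K ^ 2) :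
    IsReduced (K ⧸ Ideal.span {q}) := by
  obtain ⟨f, hf1, hf2⟩ := Submodule.exists_dual_map_eq_bot_of_notMem (p := (FinHopf.aug k K ^ 2).restrictScalars k)
    (x := q) (show q ∉ (FinHopf.aug k K ^ 2).restrictScalars k from h2) inferInstance
  have hf : ∀ z ∈ FinHopf.aug k K ^ 2, f z = 0 := fun z hz =>
    (Submodule.mem_bot k).1 (hf2 ▸ Submodule.mem_map_of_mem hz)
  let δ : K →ₗ[k] k := (f q)⁻¹ • (f ∘ₗ (LinearMap.id - (Algebra.linearMap k K) ∘ₗ (counit (R := k) (A := K))))
  have hδ : ∀ a c, δ (a * c) = counit (R := k) a * δ c + counit (R := k) c * δ a := by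
    intro a c
    simp only [δ, LinearMap.smul_apply, LinearMap.comp_apply, LinearMap.sub_apply, LinearMap.id_apply,
      Algebra.linearMap_apply, smul_eq_mul]
    have key := hf _ (show (a - algebraMap k K (counit (R := k) a)) * (c - algebraMap k K (counit (R := k) c)) ∈
      FinHopf.aug k K ^ 2 by rw [pow_two]; exact Ideal.mul_mem_mul (FinHopf.sub_counit_mem a) (FinHopf.sub_counit_mem c))
    have e : a * c - algebraMap k K (counit (R := k) (a * c)) =
        (a - algebraMap k K (counit (R := k) a)) * (c - algebraMap k K (counit (R := k) c)) +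
          (counit (R := k) a • (c - algebraMap k K (counit (R := k) c)) +
            counit (R := k) c • (a - algebraMap k K (counit (R := k) a))) := by
      simp only [Algebra.smul_def, Bialgebra.counit_mul, map_mul]; ring
    rw [e, map_add, key, zero_add, map_add, map_smul, map_smul, smul_eq_mul, smul_eq_mul]
    ring
  have hδq : δ q = 1 := by simp [δ, h0, hf1]
  let D : Derivation k K K := FinHopf.invDer δ hδ
  have hDq : D q = 1 := by
    show TensorProduct.rid k K (δ.lTensor K (comul (R := k) q)) = 1
    rw [hq]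
    simp [hδq, show δ (1 : K) = 0 by simp [δ, Bialgebra.counit_one]]
  haveI : Module.Free k (HopfOmega.Cot k K) := Module.Free.of_divisionRing k _
  haveI : Module.Free K (Ω[K⁄k]) := HopfOmega.free_kaehler k K
  haveI : Algebra.Smooth k K := Groth.Agent.S7623.result k K
  let π : K →ₐ[k] K ⧸ Ideal.span {q} := Ideal.Quotient.mkₐ k _
  have hker : RingHom.ker π.toRingHom = Ideal.span {q} := Ideal.mk_ker
  let σ₀ : K →ₐ[k] K ⧸ RingHom.ker π.toRingHom ^ 2 :=
    { toFun := fun x => Ideal.Quotient.mk _ (x - D x * q)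
      map_one' := by simp only [Derivation.map_one_eq_zero, zero_mul, sub_zero]; exact map_one _
      map_mul' := fun x y => by
        rw [← map_mul, Ideal.Quotient.eq, Derivation.leibniz, smul_eq_mul, smul_eq_mul, hker, Ideal.span_singleton_pow,
          Ideal.mem_span_singleton']
        exact ⟨-(D x * D y), by ring⟩
      map_zero' := by simp only [map_zero, zero_mul, sub_zero]
      map_add' := fun x y => by rw [← map_add, map_add D]; congr 1; ring
      commutes' := fun r => by simp }
  let σ : K ⧸ Ideal.span {q} →ₐ[k] K ⧸ RingHom.ker π.toRingHom ^ 2 :=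
    Ideal.Quotient.liftₐ _ σ₀ fun a ha => by
      obtain ⟨c, rfl⟩ := Ideal.mem_span_singleton'.1 ha
      show Ideal.Quotient.mk _ (c * q - D (c * q) * q) = 0
      rw [Ideal.Quotient.eq_zero_iff_mem, Derivation.leibniz, hDq, smul_eq_mul, smul_eq_mul, hker,
        Ideal.span_singleton_pow, Ideal.mem_span_singleton']
      exact ⟨-(D c), by ring⟩
  haveI : Algebra.FormallySmooth k (K ⧸ Ideal.span {q}) := by
    refine Algebra.FormallySmooth.of_split π σ (AlgHom.ext fun x => ?_)
    obtain ⟨a, rfl⟩ := Ideal.Quotient.mk_surjective x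
    show π.kerSquareLift (Ideal.Quotient.mk _ (a - D a * q)) = Ideal.Quotient.mk _ a
    show π (a - D a * q) = π a
    rw [map_sub, map_mul, show π q = 0 from Ideal.Quotient.eq_zero_iff_mem.2 (Ideal.mem_span_singleton_self q),
      mul_zero, sub_zero]
  haveI : Algebra.FinitePresentation k K := Algebra.FinitePresentation.of_finiteType.1 inferInstance
  haveI : Algebra.Smooth k (K ⧸ Ideal.span {q}) :=
    ⟨inferInstance, Algebra.FinitePresentation.quotient ((Submodule.fg_span_singleton q))⟩
  exact SmoothRed.isReduced_of_field k _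

end Groth.Agent.DiagUnip
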