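import Groth.Agent.DiagUnip.Extend
import Groth.Agent.DiagUnip.Lift
import Groth.Agent.DiagUnip.RedKer
import Groth.Agent.HopfSmDim.Simple
import Groth.Agent.UnipFilt.Prim
import Mathlib.RingTheory.Ideal.Quotient.Operations

/-!
# Skew elements with reduced kernel
-/

set_option autoImplicit false
set_option backward.isDefEq.respectTransparency false

universe u

open TensorProduct Coalgebra Polynomial

noncomputable section

namespace Groth.Agent.DiagUnip

open Groth.Agent.Comod Groth.Agent.FlatSub Groth.Agent.FinHopf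

variable {k : Type u} [Field k] {A : Type u} [CommRing A] [HopfAlgebra k A]
variable {B : Type u} [CommRing B] [HopfAlgebra k B] {M : Type u} [CommGroup M] {G : GBasis k B M}
  {ψ : B →ₐc[k] A} {C : Subalgebra k A}

/-- The kernel of a sub-Hopf algebra is a group. -/
theorem isHopfIdeal_aug (hC : IsSubHopf k C) : (aug C).IsHopfIdeal k := HopfSimple.isHopfIdeal_span C hC

/-- A minimal polynomial on a reduced algebra with root zero has a simple root there. -/
theorem coeff_one_minpoly_ne_zero {R : Type u} [CommRing R] [Algebra k R] [IsReduced R] {w : R}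
    (hw : IsIntegral k w) (h0 : (minpoly k w).coeff 0 = 0) : (minpoly k w).coeff 1 ≠ 0 := by
  intro h1
  obtain ⟨b, hb⟩ : (X : k[X]) ^ 2 ∣ minpoly k w := X_pow_dvd_iff.2 fun d hd => by
    interval_cases d <;> assumption
  have hne := minpoly.ne_zero hw
  have hnil : aeval w (X * b) = 0 := IsNilpotent.eq_zero ⟨2, by
    rw [← map_pow, mul_pow, pow_two b, ← mul_assoc, ← hb, map_mul, minpoly.aeval, zero_mul]⟩
  have hb0 : b ≠ 0 := fun h => hne (by rw [hb, h, mul_zero])
  have hle := natDegree_le_of_dvd (minpoly.dvd k w hnil) (mul_ne_zero X_ne_zero hb0)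
  rw [hb, natDegree_mul (pow_ne_zero _ X_ne_zero) hb0, natDegree_mul X_ne_zero hb0, natDegree_X_pow, natDegree_X] at hle
  omega

/-- The kernel of an algebraic function with simple root is reduced. -/
theorem isReduced_quot_span_of_integral {R : Type u} [CommRing R] [Algebra k R] [IsReduced R] {w : R}
    (hw : IsIntegral k w) (h0 : (minpoly k w).coeff 0 = 0) : IsReduced (R ⧸ Ideal.span {w}) := by
  have h1 := coeff_one_minpoly_ne_zero hw h0
  obtain ⟨q, hq⟩ : (X : k[X]) ∣ minpoly k w := X_dvd_iff.2 h0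
  have hq0 : q.coeff 0 ≠ 0 := by rwa [hq, coeff_X_mul] at h1
  have hdec := congrArg (aeval w) (X_mul_divX_add q)
  rw [map_add, map_mul, aeval_X, aeval_C] at hdec
  have hwq : w * aeval w q = 0 := by
    have h := minpoly.aeval k w
    rwa [hq, map_mul, aeval_X] at h
  refine ⟨fun x hx => ?_⟩
  obtain ⟨a, rfl⟩ := Ideal.Quotient.mk_surjective x
  obtain ⟨n, hn⟩ := hx
  rw [← map_pow, Ideal.Quotient.eq_zero_iff_mem, Ideal.mem_span_singleton'] at hn
  obtain ⟨c, hc⟩ := hn
  have haq : a * aeval w q = 0 := IsNilpotent.eq_zero ⟨n + 1, by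
    rw [mul_pow, pow_succ (aeval w q), pow_succ a, ← hc,
      show c * w * a * (aeval w q ^ n * aeval w q) = c * a * aeval w q ^ n * (w * aeval w q) by ring, hwq, mul_zero]⟩
  rw [Ideal.Quotient.eq_zero_iff_mem, Ideal.mem_span_singleton']
  refine ⟨algebraMap k R (-(q.coeff 0)⁻¹) * a * aeval w q.divX, ?_⟩
  have hinv : algebraMap k R (q.coeff 0)⁻¹ * algebraMap k R (q.coeff 0) = 1 := by
    rw [← map_mul, inv_mul_cancel₀ hq0, map_one]
  calc algebraMap k R (-(q.coeff 0)⁻¹) * a * aeval w q.divX * w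
      = -(algebraMap k R (q.coeff 0)⁻¹) * (a * (w * aeval w q.divX)) := by rw [map_neg]; ring
    _ = -(algebraMap k R (q.coeff 0)⁻¹) * (a * aeval w q) +
        a * (algebraMap k R (q.coeff 0)⁻¹ * algebraMap k R (q.coeff 0)) := by rw [← hdec]; ring
    _ = a := by rw [haq, hinv]; ring

namespace Skew

variable (s : Skew G ψ C)

theorem aug_C' (hcy : counit (R := k) s.y = 0) : aug s.C' = aug C ⊔ Ideal.span {s.y} := by
  refine le_antisymm ?_ (sup_le (Ideal.span_mono fun c hc => ⟨s.le_C' hc.1, hc.2⟩) ?_)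
  · refine Ideal.span_le.2 ?_
    rintro a ⟨⟨P, rfl⟩, h0⟩
    change counit (R := k) (aeval s.y P) = 0 at h0
    show aeval s.y P ∈ aug C ⊔ Ideal.span {s.y}
    have hP : aeval s.y P = s.y * aeval s.y P.divX + (P.coeff 0 : A) := by
      conv_lhs => rw [← X_mul_divX_add P]
      rw [map_add, map_mul, aeval_X, aeval_C]; rfl
    rw [hP] at h0 ⊢
    rw [map_add, Bialgebra.counit_mul, hcy, zero_mul, zero_add] at h0
    exact Submodule.add_mem _ (Ideal.mem_sup_right (Ideal.mul_mem_right _ _ (Ideal.mem_span_singleton_self _)))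
      (Ideal.mem_sup_left (Ideal.subset_span ⟨(P.coeff 0).2, h0⟩))
  · exact Ideal.span_le.2 (Set.singleton_subset_iff.2 (Ideal.subset_span ⟨s.y_mem, hcy⟩))

theorem isReduced_C' (hcy : counit (R := k) s.y = 0) (h : IsReduced ((A ⧸ aug C) ⧸ Ideal.span {s.ybar})) :
    IsReduced (A ⧸ aug s.C') := by
  have e : Ideal.map (Ideal.Quotient.mk (aug C)) (Ideal.span {s.y}) = Ideal.span {s.ybar} := by
    rw [Ideal.map_span, Set.image_singleton]; rfl
  rw [← e] at h
  rw [aug_C' s hcy]
  exact isReduced_of_injective (DoubleQuot.quotQuotEquivQuotSup (aug C) (Ideal.span {s.y})).symm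
    (RingEquiv.injective _)

variable {R : Retr ψ C} (hs : Algebra.TensorProduct.map R.r R.r s.D = 0)

include hs in
theorem counit_left_D :
    TensorProduct.lid k A ((counit (R := k) (A := A)).rTensor A (subIncl₂ C s.D)) = 0 := by
  have h := congrArg (TensorProduct.lid k A) (Coalgebra.rTensor_counit_comul (R := k) s.y)
  simp only [s.comul_y, map_add, LinearMap.rTensor_tmul, TensorProduct.lid_tmul, one_smul, Bialgebra.counit_one,
    (counit_y s hs).1, zero_smul, zero_add] at h
  exact add_eq_left.1 h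

include hs in
theorem isIntegral_reduced (hC : IsSubHopf k C) [IsReduced (A ⧸ aug C)] (hint : IsIntegral k s.ybar) :
    IsReduced (A ⧸ aug s.C') := by
  haveI := isHopfIdeal_aug hC
  refine s.isReduced_C' (counit_y s hs).1 (isReduced_quot_span_of_integral hint ?_)
  have h : Bialgebra.counitAlgHom k (A ⧸ aug C) (aeval s.ybar (minpoly k s.ybar)) = 0 := by
    rw [minpoly.aeval, map_zero]
  rw [← aeval_algHom_apply, show Bialgebra.counitAlgHom k (A ⧸ aug C) s.ybar = 0 from (counit_y s hs).1,
    ← coeff_zero_eq_aeval_zero] at h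
  exact h

end Skew

/-- On elements of the sub-Hopf algebra the first factor restricted to the kernel is trivial. -/
theorem map_prj_subIncl {R : Type u} [CommRing R] [Algebra k R] (g : A →ₐ[k] R) (t : C ⊗[k] C) :
    Algebra.TensorProduct.map (prj C) g (subIncl₂ C t) =
      (1 : A ⧸ aug C) ⊗ₜ[k] g (TensorProduct.lid k A ((counit (R := k) (A := A)).rTensor A (subIncl₂ C t))) := by
  induction t using TensorProduct.induction_on with
  | zero => simp
  | tmul x y =>
    simp only [subIncl₂, Algebra.TensorProduct.map_tmul, Subalgebra.coe_val, LinearMap.rTensor_tmul,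
      TensorProduct.lid_tmul, map_smul]
    rw [prj_of_mem x.2, Algebra.algebraMap_eq_smul_one, TensorProduct.smul_tmul]
  | add x y hx hy => simp only [map_add, hx, hy, TensorProduct.tmul_add]

theorem map_prj_of_mem (hC : IsSubHopf k C) {R : Type u} [CommRing R] [Algebra k R] (g : A →ₐ[k] R) {c : A}
    (hc : c ∈ C) : Algebra.TensorProduct.map (prj C) g (comul (R := k) c) = (1 : A ⧸ aug C) ⊗ₜ[k] g c := by
  obtain ⟨t, ht⟩ := hC.1 c hc
  rw [← ht]
  refine (map_prj_subIncl g t).trans ?_
  rw [show subIncl₂ C t = comul (R := k) c from ht, Coalgebra.rTensor_counit_comul, TensorProduct.lid_tmul, one_smul]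

/-- An additive function on the kernel with an extension invariant under the unipotent kernel. -/
def IsFixed (C : Subalgebra k A) (J : Ideal A) (w : A ⧸ aug C) : Prop :=
  ∃ f : A, Takeuchi.dbar (k := k) (aug C) f = f ⊗ₜ[k] (1 : A ⧸ aug C) + (1 : A) ⊗ₜ[k] w ∧
    Algebra.TensorProduct.map (prj C) (Ideal.Quotient.mkₐ k J) (comul (R := k) f) =
      w ⊗ₜ[k] (1 : A ⧸ J) + (1 : A ⧸ aug C) ⊗ₜ[k] Ideal.Quotient.mkₐ k J f

variable (J : Ideal A) [J.IsHopfIdeal k]
  (hJ : J = Ideal.map (ψ : B →+* A) (RingHom.ker (Bialgebra.counitAlgHom k B)))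

include hJ in
theorem mk_psi (m : M) : Ideal.Quotient.mkₐ k J (ψ (G.e m)) = 1 := by
  rw [← map_one (Ideal.Quotient.mkₐ k J)]
  refine Ideal.Quotient.eq.2 ?_
  rw [hJ, ← map_one ψ, ← map_sub]
  exact Ideal.mem_map_of_mem _ (by simp [G.counit'])

include hJ in
theorem Skew.isFixed (s : Skew G ψ C) {R : Retr ψ C} (hs : Algebra.TensorProduct.map R.r R.r s.D = 0)
    (hC : IsSubHopf k C) : IsFixed C J s.ybar := by
  refine ⟨s.y, s.dbar_y hs hC, ?_⟩
  rw [s.comul_y, map_add, map_add, map_prj_subIncl, s.counit_left_D hs, map_zero, TensorProduct.tmul_zero, add_zero,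
    Algebra.TensorProduct.map_tmul, Algebra.TensorProduct.map_tmul, map_one, mk_psi J hJ]

variable (p : ℕ) [Fact p.Prime] [CharP k p] [IsAlgClosed k] [Algebra.FiniteType k A]

theorem IsFixed.root (hC : IsSubHopf k C) [IsReduced (A ⧸ aug C)] [IsReduced (A ⧸ J)] [(aug C).IsHopfIdeal k]
    {v : A ⧸ aug C} (hv : IsPrim (k := k) v) (h : IsFixed C J (v ^ p)) : IsFixed C J v := by
  obtain ⟨f, hf1, hf2⟩ := h
  obtain ⟨b, rfl⟩ := Ideal.Quotient.mk_surjective v
  let mk : A →ₐc[k] A ⧸ aug C := Bialgebra.Quotient.mkBialgHom (aug C)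
  obtain ⟨f', hf'⟩ := exists_lift hC b (by
    have h : comul (R := k) (mk b) = _ := hv
    rw [HopfRange.comul_map] at h
    refine Eq.trans ?_ h
    generalize comul (R := k) b = t
    induction t using TensorProduct.induction_on with
    | zero => simp
    | tmul x y => rfl
    | add x y hx hy => simp only [map_add, hx, hy])
  refine ⟨f', hf', ?_⟩
  haveI : CharP A p := FinHopf.charP_of_algHom (Bialgebra.counitAlgHom k A) p
  haveI : CharP (A ⊗[k] (A ⧸ aug C)) p :=
    FinHopf.charP_of_algHom (Bialgebra.counitAlgHom k (A ⊗[k] (A ⧸ aug C))) p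
  have hdiff : f' ^ p - f ∈ C := by
    refine mem_of_dbar hC ?_
    rw [map_sub, map_pow, hf1, hf', add_pow_char, Algebra.TensorProduct.tmul_pow, Algebra.TensorProduct.tmul_pow,
      one_pow, one_pow, show prj C b = Ideal.Quotient.mk (aug C) b from rfl, TensorProduct.sub_tmul]
    abel
  haveI : IsReduced ((A ⧸ aug C) ⊗[k] (A ⧸ J)) := FinHopf.isReduced_tensor_of_perfect k (A ⧸ J) (A ⧸ aug C)
  haveI : CharP ((A ⧸ aug C) ⊗[k] (A ⧸ J)) p :=
    FinHopf.charP_of_algHom (Bialgebra.counitAlgHom k ((A ⧸ aug C) ⊗[k] (A ⧸ J))) p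
  refine sub_eq_zero.1 (IsNilpotent.eq_zero ⟨p, ?_⟩)
  have h3 := map_prj_of_mem hC (Ideal.Quotient.mkₐ k J) hdiff
  rw [map_sub, map_sub, hf2, map_sub, TensorProduct.tmul_sub, sub_eq_iff_eq_add] at h3
  rw [sub_pow_char, add_pow_char, ← map_pow, ← Bialgebra.comul_pow, h3, Algebra.TensorProduct.tmul_pow,
    Algebra.TensorProduct.tmul_pow, one_pow, one_pow, map_pow]
  abel

omit [IsAlgClosed k] [Algebra.FiniteType k A] in
theorem isPrim_of_dbar (hC : IsSubHopf k C) [(aug C).IsHopfIdeal k] {w : A ⧸ aug C} {f : A}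
    (hf : Takeuchi.dbar (k := k) (aug C) f = f ⊗ₜ[k] (1 : A ⧸ aug C) + (1 : A) ⊗ₜ[k] w) :
    prj C f = algebraMap k _ (counit (R := k) f) + w := by
  have h : ∀ t : A ⊗[k] A,
      TensorProduct.lid k (A ⧸ aug C) ((counit (R := k) (A := A)).rTensor (A ⧸ aug C)
        (Algebra.TensorProduct.map (AlgHom.id k A) (prj C) t)) =
      prj C (TensorProduct.lid k A ((counit (R := k) (A := A)).rTensor A t)) := by
    intro t
    induction t using TensorProduct.induction_on with
    | zero => simp
    | tmul x y => simp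
    | add x y hx hy => simp only [map_add, hx, hy]
  have h2 := h (comul (R := k) f)
  rw [Coalgebra.rTensor_counit_comul, show Algebra.TensorProduct.map (AlgHom.id k A) (prj C) (comul (R := k) f) = _
    from hf] at h2
  simp only [map_add, LinearMap.rTensor_tmul, TensorProduct.lid_tmul, Bialgebra.counit_one, one_smul] at h2
  rw [← h2, Algebra.algebraMap_eq_smul_one]

omit [Fact p.Prime] [CharP k p] [IsAlgClosed k] [Algebra.FiniteType k A] in
/-- An extension of an additive function is left invariant modulo the sub-Hopf algebra. -/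
theorem exists_left_invariant (hC : IsSubHopf k C) {f : A} {w : A ⧸ aug C}
    (hf1 : Takeuchi.dbar (k := k) (aug C) f = f ⊗ₜ[k] (1 : A ⧸ aug C) + (1 : A) ⊗ₜ[k] w) :
    ∃ e : A ⊗[k] Subalgebra.toSubmodule C,
      (Subalgebra.toSubmodule C).subtype.lTensor A e = comul (R := k) f - (1 : A) ⊗ₜ[k] f := by
  let N : Submodule k A := Subalgebra.toSubmodule C
  let T : A →ₗ[k] A ⊗[k] (A ⧸ aug C) := (Takeuchi.dbar (k := k) (aug C)).toLinearMap -
    (Algebra.TensorProduct.includeLeft : A →ₐ[k] A ⊗[k] (A ⧸ aug C)).toLinearMap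
  have hT : ∀ a, T a = 0 → a ∈ C := fun a ha => mem_of_dbar hC (sub_eq_zero.1 ha)
  have hTf : T f = (1 : A) ⊗ₜ[k] w := by
    rw [LinearMap.sub_apply, sub_eq_iff_eq_add']
    exact hf1
  -- left invariance
  have hleft : T.lTensor A (comul (R := k) f) = (1 : A) ⊗ₜ[k] T f := by
    rw [hTf]
    have h1 : ∀ t : A ⊗[k] A, (Takeuchi.dbar (k := k) (aug C)).toLinearMap.lTensor A t =
        (Algebra.TensorProduct.map (AlgHom.id k A) (prj C)).toLinearMap.lTensor A
          ((comul (R := k) (A := A)).lTensor A t) := by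
      intro t
      induction t using TensorProduct.induction_on with
      | zero => simp
      | tmul x y => rfl
      | add x y hx hy => simp only [map_add, hx, hy]
    have h2 : ∀ t : A ⊗[k] A, (Algebra.TensorProduct.map (AlgHom.id k A) (prj C)).toLinearMap.lTensor A
        (TensorProduct.assoc k A A A ((comul (R := k) (A := A)).rTensor A t)) =
        TensorProduct.assoc k A A (A ⧸ aug C) ((comul (R := k) (A := A)).rTensor (A ⧸ aug C)
          (Algebra.TensorProduct.map (AlgHom.id k A) (prj C) t)) := by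
      intro t
      induction t using TensorProduct.induction_on with
      | zero => simp
      | tmul x y =>
        simp only [LinearMap.rTensor_tmul, Algebra.TensorProduct.map_tmul, AlgHom.id_apply]
        generalize comul (R := k) x = s
        induction s using TensorProduct.induction_on with
        | zero => simp
        | tmul a b => simp
        | add a b ha hb => simp only [TensorProduct.add_tmul, map_add, ha, hb]
      | add x y hx hy => simp only [map_add, hx, hy]
    have h3 : ∀ t : A ⊗[k] A,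
        (Algebra.TensorProduct.includeLeft : A →ₐ[k] A ⊗[k] (A ⧸ aug C)).toLinearMap.lTensor A t =
          TensorProduct.assoc k A A (A ⧸ aug C) (t ⊗ₜ[k] (1 : A ⧸ aug C)) := by
      intro t
      induction t using TensorProduct.induction_on with
      | zero => simp
      | tmul x y => simp
      | add x y hx hy => simp only [map_add, TensorProduct.add_tmul, hx, hy]
    rw [show T = (Takeuchi.dbar (k := k) (aug C)).toLinearMap -
      (Algebra.TensorProduct.includeLeft : A →ₐ[k] A ⊗[k] (A ⧸ aug C)).toLinearMap from rfl,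
      LinearMap.lTensor_sub, LinearMap.sub_apply, h1, h3, ← Coalgebra.coassoc_apply, h2,
      show Algebra.TensorProduct.map (AlgHom.id k A) (prj C) (comul (R := k) f) = _ from hf1]
    simp only [map_add, LinearMap.rTensor_tmul, Bialgebra.comul_one, Algebra.TensorProduct.one_def,
      TensorProduct.assoc_tmul]
    rw [add_sub_cancel_left]
  have hcL : ∀ φ : A →ₗ[k] k, cL φ (comul (R := k) f - (1 : A) ⊗ₜ[k] f) ∈ C := by
    intro φ
    refine hT _ ?_
    rw [← cL_lTensor, map_sub, hleft, LinearMap.lTensor_tmul, sub_self, map_zero]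
  exact (mem_range_lTensor_iff N _).2 hcL

omit [Fact p.Prime] [CharP k p] [IsAlgClosed k] [Algebra.FiniteType k A] in
/-- Such an extension is fixed by the unipotent kernel modulo the sub-Hopf algebra. -/
theorem mkQ_fixed (hC : IsSubHopf k C) {f : A} {w : A ⧸ aug C}
    (hf1 : Takeuchi.dbar (k := k) (aug C) f = f ⊗ₜ[k] (1 : A ⧸ aug C) + (1 : A) ⊗ₜ[k] w)
    (hf2 : Algebra.TensorProduct.map (prj C) (Ideal.Quotient.mkₐ k J) (comul (R := k) f) =
      w ⊗ₜ[k] (1 : A ⧸ J) + (1 : A ⧸ aug C) ⊗ₜ[k] Ideal.Quotient.mkₐ k J f) :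
    letI := qComod hC
    (Ideal.Quotient.mkₐ k J).toLinearMap.lTensor (A ⧸ Subalgebra.toSubmodule C)
        (HopfRep.Comod.coact (k := k) (A := A) ((Subalgebra.toSubmodule C).mkQ f)) =
      (Subalgebra.toSubmodule C).mkQ f ⊗ₜ[k] (1 : A ⧸ J) := by
  obtain ⟨e, he⟩ := exists_left_invariant hC hf1
  letI cQ : HopfRep.Comod k A (A ⧸ Subalgebra.toSubmodule C) := qComod hC
  let N : Submodule k A := Subalgebra.toSubmodule C
  let πJ : A →ₐ[k] A ⧸ J := Ideal.Quotient.mkₐ k J
  let T : A →ₗ[k] A ⊗[k] (A ⧸ aug C) := (Takeuchi.dbar (k := k) (aug C)).toLinearMap -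
    (Algebra.TensorProduct.includeLeft : A →ₐ[k] A ⊗[k] (A ⧸ aug C)).toLinearMap
  have hT : ∀ a, T a = 0 → a ∈ C := fun a ha => mem_of_dbar hC (sub_eq_zero.1 ha)
  have hTf : T f = (1 : A) ⊗ₜ[k] w := by
    rw [LinearMap.sub_apply, sub_eq_iff_eq_add']
    exact hf1
  rw [show HopfRep.Comod.coact (k := k) (A := A) (N.mkQ f) = N.mkQ.rTensor A (comul (R := k) f) from rfl,
    ← LinearMap.comp_apply, LinearMap.lTensor_comp_rTensor, ← LinearMap.rTensor_comp_lTensor, LinearMap.comp_apply,
    ← LinearMap.rTensor_tmul, ← sub_eq_zero, ← map_sub]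
  refine (Module.Flat.rTensor_exact (A ⧸ J) (LinearMap.exact_subtype_mkQ N) _).2 ?_
  refine (mem_range_rTensor_iff N _).2 ?_
  intro g
  refine hT _ ?_
  rw [← cR_rTensor, map_sub, LinearMap.rTensor_tmul, hTf]
  refine Eq.trans (congrArg (cR g) ?_) (map_zero (cR g))
  have h1 : ∀ t : A ⊗[k] A, T.rTensor (A ⧸ J) (πJ.toLinearMap.lTensor A t) =
      (TensorProduct.assoc k A (A ⧸ aug C) (A ⧸ J)).symm
        ((Algebra.TensorProduct.map (prj C) πJ).toLinearMap.lTensor A
          (TensorProduct.assoc k A A A ((comul (R := k) (A := A)).rTensor A t)) -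
          ((TensorProduct.mk k (A ⧸ aug C) (A ⧸ J) 1) ∘ₗ πJ.toLinearMap).lTensor A t) := by
    intro t
    induction t using TensorProduct.induction_on with
    | zero => simp
    | tmul x y =>
      simp only [T, LinearMap.lTensor_tmul, LinearMap.rTensor_tmul, LinearMap.sub_apply, TensorProduct.sub_tmul,
        map_sub, AlgHom.toLinearMap_apply, LinearMap.comp_apply, TensorProduct.mk_apply,
        Algebra.TensorProduct.includeLeft_apply, TensorProduct.assoc_symm_tmul]
      congr 1
      show Algebra.TensorProduct.map (AlgHom.id k A) (prj C) (comul (R := k) x) ⊗ₜ[k] πJ y = _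
      generalize comul (R := k) x = s
      induction s using TensorProduct.induction_on with
      | zero => simp
      | tmul a b => simp
      | add a b ha hb => simp only [TensorProduct.add_tmul, map_add, ha, hb]
    | add x y hx hy => simp only [map_add, hx, hy]; rw [← map_add]; congr 1; abel
  rw [h1, Coalgebra.coassoc_apply, ← LinearMap.lTensor_comp_apply, ← LinearMap.sub_apply, ← LinearMap.lTensor_sub]
  have hz : ∀ c ∈ C, ((Algebra.TensorProduct.map (prj C) πJ).toLinearMap ∘ₗ comul (R := k) -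
      (TensorProduct.mk k (A ⧸ aug C) (A ⧸ J) 1) ∘ₗ πJ.toLinearMap) c = 0 := fun c hc => by
    rw [LinearMap.sub_apply, LinearMap.comp_apply, LinearMap.comp_apply, AlgHom.toLinearMap_apply,
      AlgHom.toLinearMap_apply, map_prj_of_mem hC πJ hc, TensorProduct.mk_apply, sub_self]
  rw [show comul (R := k) f = N.subtype.lTensor A e + (1 : A) ⊗ₜ[k] f by rw [he]; abel, map_add,
    ← LinearMap.lTensor_comp_apply,
    show ((Algebra.TensorProduct.map (prj C) πJ).toLinearMap ∘ₗ comul (R := k) -
      (TensorProduct.mk k (A ⧸ aug C) (A ⧸ J) 1) ∘ₗ πJ.toLinearMap) ∘ₗ N.subtype = 0 from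
        LinearMap.ext fun x => hz x.1 x.2,
    LinearMap.lTensor_zero, LinearMap.zero_apply, zero_add, LinearMap.lTensor_tmul]
  simp only [LinearMap.sub_apply, LinearMap.comp_apply, AlgHom.toLinearMap_apply, TensorProduct.mk_apply]
  rw [hf2, add_sub_cancel_right, TensorProduct.assoc_symm_tmul, sub_self]

include hJ in
/-- A fixed additive function with nonzero differential gives a skew element with reduced kernel. -/
theorem exists_skew_of_fixed (R : Retr ψ C) (hC : IsSubHopf k C) (hψ : Function.Injective ψ)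
    [IsReduced (A ⧸ aug C)] [(aug C).IsHopfIdeal k] {w : A ⧸ aug C} (hw : IsFixed C J w)
    (hw0 : counit (R := k) w = 0) (hw2 : w ∉ FinHopf.aug k (A ⧸ aug C) ^ 2) :
    ∃ s : Skew G ψ C, Algebra.TensorProduct.map R.r R.r s.D = 0 ∧ IsReduced (A ⧸ aug s.C') := by
  obtain ⟨f, hf1, hf2⟩ := hw
  letI cQ : HopfRep.Comod k A (A ⧸ Subalgebra.toSubmodule C) := qComod hC
  let N : Submodule k A := Subalgebra.toSubmodule C
  have hW : N.mkQ f ∈ leftEigen hC (ψ (G.e (1 : M)⁻¹)) := by
    obtain ⟨e, he⟩ := exists_left_invariant hC hf1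
    rw [mem_leftEigen, lamQ_mkQ, inv_one, G.one', map_one, ← LinearMap.lTensor_tmul, ← sub_eq_zero, ← map_sub, ← he,
      ← LinearMap.lTensor_comp_apply, show N.mkQ ∘ₗ N.subtype = 0 from LinearMap.ext fun x => mkQ_of_mem x.2]
    simp
  have hfix := mkQ_fixed J hC hf1 hf2
  -- a functional detecting the differential
  obtain ⟨l, hl1, hl2⟩ := Submodule.exists_dual_map_eq_bot_of_notMem
    (p := (FinHopf.aug k (A ⧸ aug C) ^ 2).restrictScalars k) (x := w)
    (show w ∉ (FinHopf.aug k (A ⧸ aug C) ^ 2).restrictScalars k from hw2) inferInstance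
  let δ : A ⧸ aug C →ₗ[k] k := l ∘ₗ (LinearMap.id -
    (Algebra.linearMap k (A ⧸ aug C)) ∘ₗ (counit (R := k) (A := A ⧸ aug C)))
  have hδc : ∀ r : k, δ (algebraMap k _ r) = 0 := fun r => by simp [δ, Bialgebra.counit_algebraMap]
  let θ₀ : A ⧸ N →ₗ[k] k := N.liftQ (δ ∘ₗ (prj C).toLinearMap) fun c hc => by
    show δ (prj C c) = 0
    rw [prj_of_mem (show c ∈ C from hc), hδc]
  have hθ : θ₀ (N.mkQ f) ≠ 0 := by
    show δ (prj C f) ≠ 0
    rw [isPrim_of_dbar hC hf1, map_add, hδc, zero_add]
    simp [δ, hw0, hl1]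
  obtain ⟨v', hv'W, hv'0, n, hv'⟩ := exists_eigen_of_fixed G ψ hψ J hJ (V := A ⧸ N)
    (isSubcomod_leftEigen hC _) hW θ₀ hθ hfix
  obtain ⟨b, rfl⟩ := Submodule.mkQ_surjective N v'
  obtain ⟨s, hs⟩ := exists_skew_of_eigen (G := G) hC R.mem
    (fun h => hv'0 (by rw [mkQ_of_mem h, map_zero])) hv' hv'W
  rw [G.one', map_one, one_mul] at hs
  obtain ⟨s', hs', c, hc⟩ := s.normalize R hC
  refine ⟨s', hs', s'.isReduced_C' (Skew.counit_y s' hs').1 ?_⟩
  have hcy : counit (R := k) s'.ybar = 0 := (Skew.counit_y s' hs').1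
  refine isReduced_quot_span ?_ hcy fun hmem => hv'0 ?_
  · show comul (R := k) ((Bialgebra.Quotient.mkBialgHom (aug C) : A →ₐc[k] A ⧸ aug C) s'.y) = _
    rw [HopfRange.comul_map]
    refine Eq.trans ?_ (s'.prj_prj_y hs' hC)
    generalize comul (R := k) s'.y = t
    induction t using TensorProduct.induction_on with
    | zero => simp
    | tmul x y => rfl
    | add x y hx hy => simp only [map_add, hx, hy]
  · show δ (prj C b) = 0
    have h1 : prj C b = s'.ybar + algebraMap k _ (counit (R := k) (ψ c)) := by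
      rw [← prj_of_mem (R.mem c), ← map_add, hc, hs, sub_add_cancel]
    rw [h1, map_add, hδc, add_zero]
    show l (s'.ybar - algebraMap k _ (counit (R := k) s'.ybar)) = 0
    rw [hcy, map_zero, sub_zero]
    exact (Submodule.mem_bot k).1 (hl2 ▸ Submodule.mem_map_of_mem
      (show s'.ybar ∈ (FinHopf.aug k (A ⧸ aug C) ^ 2).restrictScalars k from hmem))

include hJ p in
/-- **Every step of the filtration can be chosen with reduced kernel.** -/
theorem exists_skew_reduced (R : Retr ψ C) (hC : IsSubHopf k C) (hne : C ≠ ⊤) (hψ : Function.Injective ψ)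
    (hU : HopfRep.IsUnipotent k (A ⧸ J)) [IsReduced (A ⧸ J)] [IsReduced (A ⧸ aug C)] :
    ∃ s : Skew G ψ C, Algebra.TensorProduct.map R.r R.r s.D = 0 ∧ IsReduced (A ⧸ aug s.C') := by
  obtain ⟨s, hs⟩ := exists_skew (G := G) R hC hne J hJ hU hψ
  by_cases hint : IsIntegral k s.ybar
  · exact ⟨s, hs, s.isIntegral_reduced hs hC hint⟩
  haveI := isHopfIdeal_aug hC
  let K := A ⧸ aug C
  haveI : IsNoetherianRing K := Algebra.FiniteType.isNoetherianRing k K
  let S : Set (Ideal K) :=
    {I | ∃ w : K, IsPrim (k := k) w ∧ IsFixed C J w ∧ ¬ IsIntegral k w ∧ Ideal.span {w} = I}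
  have hprim : IsPrim (k := k) s.ybar := by
    show comul (R := k) ((Bialgebra.Quotient.mkBialgHom (aug C) : A →ₐc[k] A ⧸ aug C) s.y) = _
    rw [HopfRange.comul_map]
    refine Eq.trans ?_ (s.prj_prj_y hs hC)
    generalize comul (R := k) s.y = t
    induction t using TensorProduct.induction_on with
    | zero => simp
    | tmul x y => rfl
    | add x y hx hy => simp only [map_add, hx, hy]
  obtain ⟨I, ⟨w, hw, hfix, hwint, rfl⟩, hmax⟩ := set_has_maximal_iff_noetherian.2 (inferInstance : IsNoetherian K K) S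
    ⟨_, s.ybar, hprim, s.isFixed J hJ hs hC, hint, rfl⟩
  refine exists_skew_of_fixed J hJ R hC hψ hfix (UnipFilt.counit_prim hw) fun h2 => ?_
  obtain ⟨v, hv, hvprim⟩ := exists_prim_root p hw h2
  have hvint : ¬ IsIntegral k v := fun h => hwint (hv ▸ h.pow p)
  have hle : Ideal.span {w} ≤ Ideal.span {v} := Ideal.span_le.2 (Set.singleton_subset_iff.2 (by
    rw [← hv]; exact Ideal.pow_mem_of_mem _ (Ideal.mem_span_singleton_self v) p (Nat.Prime.pos Fact.out)))
  have heq : Ideal.span {w} = Ideal.span {v} := eq_of_le_of_not_lt hle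
    (hmax _ ⟨v, hvprim, IsFixed.root J p hC hvprim (hv.symm ▸ hfix), hvint, rfl⟩)
  -- then `v` is a polynomial in `w = v ^ p`
  let P : Subalgebra k K := Algebra.adjoin k {w}
  have hwP : w ∈ P := Algebra.self_mem_adjoin_singleton k w
  have hSw : HopfAlgebra.antipode k w = -w := by
    have h := HopfAlgebra.mul_antipode_rTensor_comul_apply (R := k) w
    rw [hw, map_add, map_add, LinearMap.rTensor_tmul, LinearMap.rTensor_tmul, LinearMap.mul'_apply,
      LinearMap.mul'_apply, HopfAlgebra.antipode_one, one_mul, mul_one, UnipFilt.counit_prim hw, map_zero] at h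
    exact eq_neg_of_add_eq_zero_left h
  have hP : IsSubHopf k P := by
    refine ⟨fun x hx => ?_, fun x hx => ?_⟩
    · refine (Algebra.adjoin_le (S := (subIncl₂ P).range.comap (Bialgebra.comulAlgHom k K)) ?_) hx
      rintro _ h
      rw [Set.mem_singleton_iff.1 h]
      exact ⟨(⟨w, hwP⟩ : P) ⊗ₜ 1 + 1 ⊗ₜ (⟨w, hwP⟩ : P), by simp [subIncl₂]; exact hw.symm⟩
    · refine (Algebra.adjoin_le (S := P.comap (HopfAlgebra.antipodeAlgHom k K)) ?_) hx
      rintro _ h
      rw [Set.mem_singleton_iff.1 h]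
      show HopfAlgebra.antipode k w ∈ P
      rw [hSw]
      exact P.neg_mem hwP
  have hvP : v ∈ P := by
    refine mem_of_dbar hP ?_
    show Algebra.TensorProduct.map (AlgHom.id k K) (prj P) (comul (R := k) v) = _
    have h0 : prj P v = 0 := by
      refine Ideal.Quotient.eq_zero_iff_mem.2 ?_
      have : v ∈ Ideal.span {w} := heq.symm ▸ Ideal.mem_span_singleton_self v
      refine Ideal.span_le.2 ?_ this
      rintro _ h
      rw [Set.mem_singleton_iff.1 h]
      exact Ideal.subset_span ⟨hwP, UnipFilt.counit_prim hw⟩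
    rw [hvprim, map_add, Algebra.TensorProduct.map_tmul, Algebra.TensorProduct.map_tmul, h0]
    simp
  have hvP' : v ∈ (aeval (R := k) w).range := by rw [← Algebra.adjoin_singleton_eq_range_aeval]; exact hvP
  obtain ⟨Q, hQ⟩ := hvP'
  apply hvint
  refine IsAlgebraic.isIntegral ⟨Polynomial.expand k p Q - Polynomial.X, fun h => ?_, ?_⟩
  · have hc := congrArg (fun q => Polynomial.coeff q 1) h
    simp only [coeff_sub, coeff_expand (Nat.Prime.pos Fact.out), coeff_X_one, coeff_zero,
      Nat.dvd_one, (Nat.Prime.ne_one Fact.out : p ≠ 1), if_false, zero_sub] at hc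
    exact one_ne_zero (neg_eq_zero.1 hc)
  · rw [map_sub, expand_aeval, aeval_X, hv, sub_eq_zero]
    exact hQ

end Groth.Agent.DiagUnip
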