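import Groth.Agent.DiagUnip.Extend
import Mathlib.FieldTheory.IsAlgClosed.Basic
import Mathlib.RingTheory.Noetherian.Defs

/-!
# Extensions of diagonalisable groups by unipotent groups split
-/

set_option autoImplicit false
set_option backward.isDefEq.respectTransparency false

universe u

open TensorProduct Coalgebra Polynomial

noncomputable section

namespace Groth.Agent.DiagUnip

open Groth.Agent.Comod Groth.Agent.FlatSub Groth.Agent.FinHopf

variable {k : Type u} [Field k] {A : Type u} [CommRing A] [HopfAlgebra k A] [Algebra.FiniteType k A]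
variable {B : Type u} [CommRing B] [HopfAlgebra k B] {M : Type u} [CommGroup M] (G : GBasis k B M)
  (ψ : B →ₐc[k] A) (hψ : Function.Injective ψ)

include hψ in
/-- The retraction of the quotient itself. -/
theorem exists_retr_range : Nonempty (Retr ψ (ψ : B →ₐ[k] A).range) := by
  let E : B ≃ₐ[k] (ψ : B →ₐ[k] A).range := AlgEquiv.ofInjective (ψ : B →ₐ[k] A) hψ
  have hE : ∀ c, ψ (E.symm c) = (c : A) := fun c => congrArg Subtype.val (E.apply_symm_apply c)
  refine ⟨⟨E.symm.toAlgHom, fun b => ⟨b, rfl⟩, fun b => hψ (hE _), fun c => ?_, fun c t ht => ?_⟩⟩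
  · show counit (R := k) (E.symm c) = counit (R := k) (c : A)
    rw [← hE c]
    exact (CoalgHomClass.counit_comp_apply ψ _).symm
  · show Algebra.TensorProduct.map E.symm.toAlgHom E.symm.toAlgHom t = comul (R := k) (E.symm c)
    refine TensorProduct.map_injective_of_flat_flat (ψ : B →ₐ[k] A).toLinearMap (ψ : B →ₐ[k] A).toLinearMap
      hψ hψ ?_
    rw [← HopfRange.comul_map, hE, ← ht]
    clear ht
    induction t using TensorProduct.induction_on with
    | zero => simp
    | tmul x y => simp [subIncl₂, hE]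
    | add x y hx hy => simp only [map_add, hx, hy]

/-- An ideal determines the skew element is outside. -/
theorem Skew.not_mem_of_le {G : GBasis k B M} {ψ : B →ₐc[k] A} {C : Subalgebra k A} (s : Skew G ψ C)
    {R : Retr ψ C} (hs : Algebra.TensorProduct.map R.r R.r s.D = 0) (hC : IsSubHopf k C) :
    ¬ aug s.C' ≤ aug C := by
  intro h
  refine s.notMem (mem_of_dbar hC ?_)
  have h0 : s.ybar = 0 :=
    Ideal.Quotient.eq_zero_iff_mem.2 (h (Ideal.subset_span ⟨s.y_mem, (Skew.counit_y s hs).1⟩))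
  rw [Skew.dbar_y s hs hC, h0, TensorProduct.tmul_zero, add_zero]

theorem aug_mono {C D : Subalgebra k A} (h : C ≤ D) : aug C ≤ aug D :=
  Ideal.span_mono fun _ hc => ⟨h hc.1, hc.2⟩

variable [IsAlgClosed k] (J : Ideal A) [J.IsHopfIdeal k]
  (hJ : J = Ideal.map (ψ : B →+* A) (RingHom.ker (Bialgebra.counitAlgHom k B)))
  (hU : HopfRep.IsUnipotent k (A ⧸ J))

include G hψ hJ hU in
/-- **Extensions of diagonalisable groups by unipotent groups split.** -/
theorem exists_retraction : ∃ r : A →ₐc[k] B, r.comp ψ = BialgHom.id k B := by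
  haveI : IsNoetherianRing A := Algebra.FiniteType.isNoetherianRing k A
  let S : Set (Ideal A) := {I | ∃ C : Subalgebra k A, IsSubHopf k C ∧ Nonempty (Retr ψ C) ∧ aug C = I}
  obtain ⟨I, ⟨C, hC, ⟨R⟩, rfl⟩, hmax⟩ :=
    set_has_maximal_iff_noetherian.2 (inferInstance : IsNoetherian A A) S
      ⟨_, _, HopfRange.isSubHopf_range ψ, exists_retr_range ψ hψ, rfl⟩
  have htop : C = ⊤ := by
    by_contra hne
    obtain ⟨s, hs⟩ := exists_skew (G := G) R hC hne J hJ hU hψ
    suffices h : ∃ e : B, (∀ P : C[X], aeval s.y P = 0 → P.eval₂ (R.r : C →+* B) e = 0) ∧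
        comul (R := k) e = e ⊗ₜ[k] G.e s.μ + (1 : B) ⊗ₜ[k] e by
      obtain ⟨e, h1, h2⟩ := h
      obtain ⟨R', -⟩ := s.exists_retr R hs hC e h1 h2
      exact hmax _ ⟨_, s.isSubHopf hC R.mem, ⟨R'⟩, rfl⟩
        (lt_of_le_not_ge (aug_mono s.le_C') (s.not_mem_of_le hs hC))
    rcases Skew.exists_minRel s hs hψ hC with h | ⟨⟨m⟩⟩
    · exact ⟨0, fun P hP => by rw [h P hP, eval₂_zero], by simp⟩
    -- the value of the retraction on the relation
    let zC : C := ⟨_, m.mem⟩
    have hw : comul (R := k) (R.r zC) =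
        R.r zC ⊗ₜ[k] G.e (s.μ ^ m.φ.natDegree) + (1 : B) ⊗ₜ[k] R.r zC := by
      rw [← R.comul' zC _ (m.comul_z _ rfl), map_add, map_add, ← aeval_algHom_apply, hs, m.isAdd.aeval_zero,
        add_zero, Algebra.TensorProduct.map_tmul, Algebra.TensorProduct.map_tmul, map_one, R.retr, G.pow_eq]
    obtain ⟨a, ha⟩ := G.skew_prim hw
    obtain ⟨b, hb⟩ := IsAlgClosed.exists_root (m.φ - Polynomial.C a) (by
      have hd : (Polynomial.C a).degree < m.φ.degree := by
        rw [degree_eq_natDegree m.monic.ne_zero]; exact degree_C_le.trans_lt (Nat.cast_pos.2 m.pos)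
      rw [degree_sub_eq_left_of_degree_lt hd, degree_eq_natDegree m.monic.ne_zero]
      exact_mod_cast m.pos.ne')
    rw [IsRoot, eval_sub, eval_C, sub_eq_zero] at hb
    refine ⟨b • (G.e s.μ - 1), fun P hP => m.eval₂_eq_zero R.r _ ?_ hP, ?_⟩
    · rw [Algebra.smul_def, mul_sub, mul_one, m.isAdd.aeval_sub, aeval_mul_of_pow m.pow_eq,
        aeval_algebraMap_apply, coe_aeval_eq_eval, hb, ha, G.pow_eq, Algebra.smul_def, mul_sub, mul_one]
    · rw [map_smul, map_sub, G.comul', Bialgebra.comul_one, Algebra.TensorProduct.one_def]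
      simp [TensorProduct.sub_tmul, TensorProduct.tmul_sub, smul_sub, TensorProduct.smul_tmul']
  subst htop
  let r₀ : A →ₐ[k] B := R.r.comp (Algebra.toTop (R := k) (A := A))
  have hr₀ : ∀ a : A, r₀ a = R.r ⟨a, trivial⟩ := fun a => rfl
  refine ⟨BialgHom.ofAlgHom r₀ (AlgHom.ext fun a => R.counit' ⟨a, trivial⟩) (AlgHom.ext fun a => ?_), ?_⟩
  · obtain ⟨t, ht⟩ := hC.1 a trivial
    show Algebra.TensorProduct.map r₀ r₀ (comul (R := k) a) = comul (R := k) (r₀ a)
    rw [hr₀, ← R.comul' ⟨a, trivial⟩ t ht, ← ht]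
    clear ht
    induction t using TensorProduct.induction_on with
    | zero => simp
    | tmul x y => simp [hr₀]
    | add x y hx hy => simp only [map_add, hx, hy]
  · exact BialgHom.ext fun b => R.retr b

end Groth.Agent.DiagUnip
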