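import Mathlib.Algebra.Polynomial.AlgebraMap
import Mathlib.Data.Nat.Choose.Sum
import Mathlib.Tactic

/-!
# Additive polynomials
-/

set_option autoImplicit false

universe u v

open Polynomial

namespace Groth.Agent.DiagUnip

variable {k : Type u} [Field k]

/-- The polynomial is additive, coefficientwise. -/
def IsAdd (φ : k[X]) : Prop :=
  φ.coeff 0 = 0 ∧ ∀ i j : ℕ, 0 < j → j < i → φ.coeff i * (i.choose j : k) = 0

variable {φ : k[X]} {R : Type v} [CommRing R] [Algebra k R]

theorem IsAdd.aeval_add (h : IsAdd φ) (u w : R) : aeval (u + w) φ = aeval u φ + aeval w φ := by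
  rw [aeval_eq_sum_range, aeval_eq_sum_range, aeval_eq_sum_range, ← Finset.sum_add_distrib]
  refine Finset.sum_congr rfl fun i _ => ?_
  rcases Nat.eq_zero_or_pos i with rfl | hi
  · simp [h.1]
  obtain ⟨m, rfl⟩ := Nat.exists_eq_add_of_lt hi
  rw [add_pow, Finset.smul_sum, Finset.sum_range_succ, Finset.sum_range_succ']
  have h0 : ∑ j ∈ Finset.range (0 + m), φ.coeff (0 + m + 1) •
      (u ^ (j + 1) * w ^ (0 + m + 1 - (j + 1)) * ((0 + m + 1).choose (j + 1) : R)) = 0 := by
    refine Finset.sum_eq_zero fun j hj => ?_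
    rw [Algebra.smul_def, ← map_natCast (algebraMap k R), mul_comm, mul_assoc, ← map_mul,
      mul_comm _ (φ.coeff _), h.2 _ _ (Nat.succ_pos _) (by have := Finset.mem_range.1 hj; omega), map_zero,
      mul_zero]
  rw [h0]
  simp [add_comm]

theorem IsAdd.aeval_zero (h : IsAdd φ) : aeval (0 : R) φ = 0 := by
  rw [← coeff_zero_eq_aeval_zero', h.1, map_zero]

theorem IsAdd.aeval_sub (h : IsAdd φ) (u w : R) : aeval (u - w) φ = aeval u φ - aeval w φ := by
  rw [eq_sub_iff_add_eq, ← h.aeval_add, sub_add_cancel]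

/-- Rescaling by an element whose powers agree on the support. -/
theorem aeval_mul_of_pow {γ : R} {d : ℕ} (hγ : ∀ i, φ.coeff i • γ ^ i = φ.coeff i • γ ^ d) (u : R) :
    aeval (u * γ) φ = aeval u φ * γ ^ d := by
  rw [aeval_eq_sum_range, aeval_eq_sum_range, Finset.sum_mul]
  refine Finset.sum_congr rfl fun i _ => ?_
  rw [mul_pow, smul_mul_assoc, ← mul_smul_comm, hγ, mul_smul_comm]

/-- Binomial expansion for additive monomials. -/
theorem IsAdd.pow_eq (h : IsAdd φ) (hm : φ.Monic) (u w : R) :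
    (u + w) ^ φ.natDegree = u ^ φ.natDegree + w ^ φ.natDegree ∨ φ.natDegree = 0 := by
  rcases Nat.eq_zero_or_pos φ.natDegree with h0 | h0
  · exact Or.inr h0
  left
  obtain ⟨m, hm'⟩ := Nat.exists_eq_add_of_lt h0
  rw [hm', add_pow, Finset.sum_range_succ, Finset.sum_range_succ']
  have hz : ∑ j ∈ Finset.range (0 + m),
      u ^ (j + 1) * w ^ (0 + m + 1 - (j + 1)) * ((0 + m + 1).choose (j + 1) : R) = 0 := by
    refine Finset.sum_eq_zero fun j hj => ?_
    have := h.2 (0 + m + 1) (j + 1) (Nat.succ_pos _) (by have := Finset.mem_range.1 hj; omega)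
    rw [show φ.coeff (0 + m + 1) = 1 by rw [← hm']; exact hm, one_mul] at this
    rw [← map_natCast (algebraMap k R), this, map_zero, mul_zero]
  rw [hz]
  simp [add_comm]

end Groth.Agent.DiagUnip
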