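import Groth.Prelude.Def_SGA3b
import Mathlib.LinearAlgebra.TensorProduct.Basis
import Mathlib.RingTheory.Coalgebra.GroupLike
import Mathlib.RingTheory.Coalgebra.MonoidAlgebra
import Mathlib.Algebra.MonoidAlgebra.Module
import Mathlib.Tactic

/-!
# Twisted two-cocycles on a diagonalisable Hopf algebra are coboundaries
-/

set_option autoImplicit false

universe u

open TensorProduct Coalgebra Module

noncomputable section

namespace Groth.Agent.DiagUnip

/-- A basis of group-like elements indexed by a group. -/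
structure GBasis (k : Type u) [Field k] (B : Type u) [CommRing B] [HopfAlgebra k B] (M : Type u) [CommGroup M] where
  e : Basis M k B
  comul' : ∀ m, comul (R := k) (e m) = e m ⊗ₜ[k] e m
  counit' : ∀ m, counit (R := k) (e m) = 1
  mul' : ∀ m n, e (m * n) = e m * e n
  one' : e 1 = 1

theorem exists_GBasis {k : Type u} [Field k] {B : Type u} [CommRing B] [HopfAlgebra k B] (h : SGA3b.IsDiag k B) :
    ∃ (M : Type u) (_ : CommGroup M), Nonempty (GBasis k B M) := by
  obtain ⟨M, _, ⟨E⟩⟩ := h
  refine ⟨M, inferInstance, ⟨⟨(MonoidAlgebra.basis M k).map E.symm.toLinearEquiv, fun m => ?_, fun m => ?_,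
    fun m n => ?_, ?_⟩⟩⟩
  · show comul (R := k) (E.symm (MonoidAlgebra.basis M k m)) =
      E.symm (MonoidAlgebra.basis M k m) ⊗ₜ[k] E.symm (MonoidAlgebra.basis M k m)
    rw [← CoalgHomClass.map_comp_comul_apply, MonoidAlgebra.basis_apply, MonoidAlgebra.comul_single]
    simp
  · show counit (R := k) (E.symm (MonoidAlgebra.basis M k m)) = 1
    rw [CoalgHomClass.counit_comp_apply, MonoidAlgebra.basis_apply, MonoidAlgebra.counit_single]
    simp
  · show E.symm (MonoidAlgebra.basis M k (m * n)) = E.symm _ * E.symm _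
    rw [← map_mul]; simp [MonoidAlgebra.single_mul_single]
  · show E.symm (MonoidAlgebra.basis M k 1) = 1
    rw [MonoidAlgebra.basis_apply, ← MonoidAlgebra.one_def, map_one]

namespace GBasis

variable {k : Type u} [Field k] {B : Type u} [CommRing B] [HopfAlgebra k B] {M : Type u} [CommGroup M]
  (G : GBasis k B M)

theorem mul_inv (m : M) : G.e m * G.e m⁻¹ = 1 := by rw [← G.mul', mul_inv_cancel, G.one']

theorem pow_eq (m : M) : ∀ i : ℕ, G.e (m ^ i) = G.e m ^ i
  | 0 => by simp [G.one']
  | i + 1 => by rw [pow_succ, G.mul', pow_eq m i, pow_succ]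

theorem isUnit (m : M) : IsUnit (G.e m) := .of_mul_eq_one _ (G.mul_inv m)

/-- Coordinates of a tensor. -/
def cf (t : B ⊗[k] B) (m n : M) : k := (G.e.tensorProduct G.e).repr t (m, n)

theorem cf_add (s t : B ⊗[k] B) (m n : M) : G.cf (s + t) m n = G.cf s m n + G.cf t m n := by simp [cf]

theorem cf_sub (s t : B ⊗[k] B) (m n : M) : G.cf (s - t) m n = G.cf s m n - G.cf t m n := by simp [cf]

theorem cf_ext {s t : B ⊗[k] B} (h : ∀ m n, G.cf s m n = G.cf t m n) : s = t :=
  (G.e.tensorProduct G.e).repr.injective (Finsupp.ext fun ⟨m, n⟩ => h m n)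

theorem cf_tmul (x y : B) (m n : M) : G.cf (x ⊗ₜ[k] y) m n = G.e.repr x m * G.e.repr y n := by
  rw [cf, Basis.tensorProduct_repr_tmul_apply, smul_eq_mul, mul_comm]

theorem repr_one [DecidableEq M] (m : M) : G.e.repr 1 m = if m = 1 then 1 else 0 := by
  rw [← G.one', Basis.repr_self, Finsupp.single_apply]
  simp [eq_comm]

theorem repr_e [DecidableEq M] (μ m : M) : G.e.repr (G.e μ) m = if m = μ then 1 else 0 := by
  rw [Basis.repr_self, Finsupp.single_apply]
  simp [eq_comm]

theorem cf_comul [DecidableEq M] (x : B) (m n : M) :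
    G.cf (comul (R := k) x) m n = if m = n then G.e.repr x m else 0 := by
  let L : B →ₗ[k] k := (Finsupp.lapply (m, n)) ∘ₗ (G.e.tensorProduct G.e).repr.toLinearMap ∘ₗ comul (R := k)
  let R : B →ₗ[k] k := if m = n then (Finsupp.lapply m) ∘ₗ G.e.repr.toLinearMap else 0
  have : L = R := G.e.ext fun j => by
    show G.cf (comul (R := k) (G.e j)) m n = R (G.e j)
    rw [G.comul', cf_tmul, repr_e, repr_e]
    simp only [R]
    split_ifs <;> simp_all [Finsupp.single_apply, eq_comm]
  have h := LinearMap.congr_fun this x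
  refine h.trans ?_
  simp only [R]
  split_ifs <;> simp

section Triple
variable [DecidableEq M]

/-- Coordinates of a triple tensor. -/
def cf₃ (t : B ⊗[k] (B ⊗[k] B)) (m n l : M) : k := (G.e.tensorProduct (G.e.tensorProduct G.e)).repr t (m, n, l)

theorem cf₃_tmul (x : B) (s : B ⊗[k] B) (m n l : M) : G.cf₃ (x ⊗ₜ[k] s) m n l = G.e.repr x m * G.cf s n l := by
  rw [cf₃, Basis.tensorProduct_repr_tmul_apply, smul_eq_mul, mul_comm]; rfl

theorem cf₃_lTensor (t : B ⊗[k] B) (m n l : M) :
    G.cf₃ ((comul (R := k) (A := B)).lTensor B t) m n l = if n = l then G.cf t m n else 0 := by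
  induction t using TensorProduct.induction_on with
  | zero => simp [cf₃, cf]
  | tmul x y =>
    rw [LinearMap.lTensor_tmul, cf₃_tmul, cf_comul, cf_tmul]
    split_ifs <;> simp
  | add x y hx hy =>
    simp only [map_add, cf₃, cf, Finsupp.add_apply] at hx hy ⊢
    rw [hx, hy]
    split_ifs <;> simp

theorem cf₃_rTensor (t : B ⊗[k] B) (m n l : M) :
    G.cf₃ (TensorProduct.assoc k B B B ((comul (R := k) (A := B)).rTensor B t)) m n l =
      if m = n then G.cf t m l else 0 := by
  induction t using TensorProduct.induction_on with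
  | zero => simp [cf₃, cf]
  | tmul x y =>
    rw [LinearMap.rTensor_tmul, cf_tmul]
    have h : ∀ s : B ⊗[k] B, G.cf₃ (TensorProduct.assoc k B B B (s ⊗ₜ y)) m n l = G.cf s m n * G.e.repr y l := by
      intro s
      induction s using TensorProduct.induction_on with
      | zero => simp [cf₃, cf]
      | tmul p q => rw [TensorProduct.assoc_tmul, cf₃_tmul, cf_tmul, cf_tmul]; ring
      | add p q hp hq =>
        simp only [TensorProduct.add_tmul, map_add, cf₃, cf, Finsupp.add_apply] at hp hq ⊢
        rw [hp, hq]; ring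
    rw [h, cf_comul]
    split_ifs <;> simp
  | add x y hx hy =>
    simp only [map_add, cf₃, cf, Finsupp.add_apply] at hx hy ⊢
    rw [hx, hy]
    split_ifs <;> simp

end Triple

/-- The coboundary. -/
def cob (μ : M) (b : B) : B ⊗[k] B := comul (R := k) b - b ⊗ₜ[k] G.e μ - (1 : B) ⊗ₜ[k] b

/-- The cocycle condition. -/
def IsCocycle (μ : M) (c : B ⊗[k] B) : Prop :=
  TensorProduct.assoc k B B B (c ⊗ₜ[k] G.e μ) + TensorProduct.assoc k B B B ((comul (R := k) (A := B)).rTensor B c) =
    (1 : B) ⊗ₜ[k] c + (comul (R := k) (A := B)).lTensor B c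

theorem cf₃_assoc_tmul [DecidableEq M] (t : B ⊗[k] B) (y : B) (m n l : M) :
    G.cf₃ (TensorProduct.assoc k B B B (t ⊗ₜ y)) m n l = G.cf t m n * G.e.repr y l := by
  induction t using TensorProduct.induction_on with
  | zero => simp [cf₃, cf]
  | tmul p q => rw [TensorProduct.assoc_tmul, cf₃_tmul, cf_tmul, cf_tmul]; ring
  | add p q hp hq =>
    simp only [TensorProduct.add_tmul, map_add, cf₃, cf, Finsupp.add_apply] at hp hq ⊢
    rw [hp, hq]; ring

theorem IsCocycle.eq [DecidableEq M] {G : GBasis k B M} {μ : M} {c : B ⊗[k] B} (h : G.IsCocycle μ c) (m n l : M) :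
    (if l = μ then G.cf c m n else 0) + (if m = n then G.cf c m l else 0) =
      (if m = 1 then G.cf c n l else 0) + (if n = l then G.cf c m n else 0) := by
  have h2 := congrArg (fun t => G.cf₃ t m n l) h
  have hadd : ∀ s t : B ⊗[k] (B ⊗[k] B), G.cf₃ (s + t) m n l = G.cf₃ s m n l + G.cf₃ t m n l := fun s t => by
    simp [cf₃]
  simp only [hadd, cf₃_assoc_tmul, cf₃_tmul, cf₃_rTensor, cf₃_lTensor, repr_e, repr_one] at h2
  simpa only [mul_ite, ite_mul, one_mul, mul_one, mul_zero, zero_mul] using h2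

/-- **Twisted cocycles are coboundaries.** -/
theorem exists_cob {μ : M} {c : B ⊗[k] B} (h : G.IsCocycle μ c) : ∃ b : B, G.cob μ b = c := by
  classical
  let d : M →₀ k := ((G.e.tensorProduct G.e).repr c).comapDomain (fun m => (m, m))
    (fun a _ b _ hab => (Prod.mk.injEq .. ▸ hab).1)
  let b : B := G.e.repr.symm (d.update 1 (-(G.cf c 1 μ)))
  have hb : ∀ m, G.e.repr b m = if m = 1 then -(G.cf c 1 μ) else G.cf c m m := fun m => by
    by_cases h1 : m = 1 <;> simp [b, d, Finsupp.update_apply, h1, cf] <;> rfl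
  refine ⟨b, G.cf_ext fun m n => ?_⟩
  rw [cob, cf_sub, cf_sub, cf_comul, cf_tmul, cf_tmul, repr_e, repr_one]
  simp only [hb]
  have e1 := h.eq m n n
  have e2 := h.eq m m n
  have e3 := h.eq m m m
  have e4 := h.eq m n μ
  by_cases hm : m = 1 <;> by_cases hn : n = μ <;> by_cases hmn : m = n
  all_goals grind

/-- Skew primitive elements. -/
theorem skew_prim {δ : M} {w : B} (h : comul (R := k) w = w ⊗ₜ[k] G.e δ + (1 : B) ⊗ₜ[k] w) :
    ∃ a : k, w = a • (G.e δ - 1) := by
  classical
  have h' : ∀ m n, (if m = n then G.e.repr w m else 0) =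
      G.e.repr w m * (if n = δ then 1 else 0) + (if m = 1 then 1 else 0) * G.e.repr w n := fun m n => by
    rw [← cf_comul, h, cf_add, cf_tmul, cf_tmul, repr_e, repr_one]
  refine ⟨G.e.repr w δ, G.e.repr.injective (Finsupp.ext fun m => ?_)⟩
  rw [map_smul, map_sub, Finsupp.smul_apply, Finsupp.sub_apply, repr_e, repr_one, smul_eq_mul]
  have e1 := h' m m
  have e2 := h' 1 δ
  by_cases hm : m = 1 <;> by_cases hd : m = δ
  all_goals grind

end GBasis

end Groth.Agent.DiagUnip
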