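import Groth.Agent.DiagUnip.BaseChange
import Groth.Agent.UnipLie.Connected
import Mathlib.RingTheory.Ideal.IdempotentFG
import Mathlib.RingTheory.Unramified.Field
import Mathlib.RingTheory.Etale.Basic
import Mathlib.RingTheory.Flat.FaithfullyFlat.Basic

/-!
# Extensions with étale unipotent kernel and connected quotient
-/

set_option autoImplicit false
set_option linter.style.haveILetI false
set_option linter.unusedSectionVars false
set_option backward.isDefEq.respectTransparency false

universe u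

open TensorProduct Coalgebra WithConv
open Groth.Agent.Takeuchi
open scoped Groth.Agent.Takeuchi

noncomputable section

namespace Groth.Agent.DiagUnip

variable {k : Type u} [Field k]

/-- Maps from a finite reduced algebra to a connected algebra with a rational point are constant. -/
theorem map_eq_algebraMap {R T : Type u} [CommRing R] [Algebra k R] [Module.Finite k R] [IsReduced R]
    [CommRing T] [Algebra k T] (hT : ∀ e : T, IsIdempotentElem e → e = 0 ∨ e = 1) (εT : T →ₐ[k] k)
    (g : R →ₐ[k] T) (x : R) : g x = algebraMap k T (εT (g x)) := by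
  let z : R := x - algebraMap k R (εT (g x))
  have hz : IsIntegral k z := Algebra.IsIntegral.isIntegral z
  let w : T := g z
  have hw0 : εT w = 0 := by simp [w, z]
  have h0 : (minpoly k z).coeff 0 = 0 := by
    have h := congrArg (εT.comp g) (minpoly.aeval k z)
    rw [← Polynomial.aeval_algHom_apply, map_zero] at h
    rw [show (εT.comp g) z = 0 from hw0, Polynomial.coe_aeval_eq_eval] at h
    rwa [Polynomial.coeff_zero_eq_eval_zero]
  have h1 := coeff_one_minpoly_ne_zero hz h0
  obtain ⟨Q, hQ⟩ : (Polynomial.X : Polynomial k) ∣ minpoly k z := Polynomial.X_dvd_iff.2 h0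
  have hQ0 : Q.coeff 0 ≠ 0 := by rwa [hQ, Polynomial.coeff_X_mul] at h1
  have hwQ : w * Polynomial.aeval w Q = 0 := by
    have h := congrArg (Polynomial.aeval w) hQ
    rw [map_mul, Polynomial.aeval_X, Polynomial.aeval_algHom_apply g z (minpoly k z), minpoly.aeval, map_zero] at h
    exact h.symm
  let e : T := (Q.coeff 0)⁻¹ • Polynomial.aeval w Q
  have hdec := congrArg (Polynomial.aeval w) (Polynomial.X_mul_divX_add Q)
  rw [map_add, map_mul, Polynomial.aeval_X, Polynomial.aeval_C] at hdec
  have he1 : e - 1 = (Q.coeff 0)⁻¹ • (w * Polynomial.aeval w Q.divX) := by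
    show (Q.coeff 0)⁻¹ • Polynomial.aeval w Q - 1 = _
    rw [← hdec, smul_add, Algebra.algebraMap_eq_smul_one (Q.coeff 0), smul_smul, inv_mul_cancel₀ hQ0, one_smul,
      add_sub_cancel_right]
  have he : IsIdempotentElem e := by
    rw [IsIdempotentElem, ← sub_eq_zero, show e * e - e = e * (e - 1) by ring, he1]
    simp only [e, smul_mul_smul_comm]
    rw [show Polynomial.aeval w Q * (w * Polynomial.aeval w Q.divX) =
      w * Polynomial.aeval w Q * Polynomial.aeval w Q.divX by ring, hwQ, zero_mul, smul_zero]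
  have hw : w = 0 := by
    rcases hT e he with h | h
    · exfalso
      have h2 := congrArg εT he1
      rw [h] at h2
      simp [hw0] at h2
    · have : w * e = 0 := by rw [mul_smul_comm, hwQ, smul_zero]
      rwa [h, mul_one] at this
  simpa [w, z, sub_eq_zero] using hw

variable {A : Type u} [CommRing A] [HopfAlgebra k A] {B : Type u} [CommRing B] [HopfAlgebra k B]
  {ψ : B →ₐc[k] A}

/-- Restriction of points along a map of groups. -/
def prec (ψ : B →ₐc[k] A) (T : Type u) [CommRing T] [Algebra k T] : Pt k A T →* Pt k B T where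
  toFun f := toConv (f.ofConv.comp (ψ : B →ₐ[k] A))
  map_one' := WithConv.ext (AlgHom.ext fun b => by
    show (1 : Pt k A T) (ψ b) = (1 : Pt k B T) b
    rw [Takeuchi.one_apply, Takeuchi.one_apply]
    exact congrArg _ (CoalgHomClass.counit_comp_apply ψ b))
  map_mul' f g := WithConv.ext (AlgHom.ext fun b => by
    show (f * g) (ψ b) = (toConv (f.ofConv.comp (ψ : B →ₐ[k] A)) * toConv (g.ofConv.comp (ψ : B →ₐ[k] A)) : Pt k B T) b
    rw [Takeuchi.mul_apply, Takeuchi.mul_apply, HopfRange.comul_map]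
    generalize comul (R := k) b = t
    induction t using TensorProduct.induction_on with
    | zero => simp
    | tmul x y => simp
    | add x y hx hy => simp only [map_add, hx, hy])

variable (J : Ideal A) [J.IsHopfIdeal k]
  (hJ : J = Ideal.map (ψ : B →+* A) (RingHom.ker (Bialgebra.counitAlgHom k B)))
  [Module.Finite k (A ⧸ J)] [IsReduced (A ⧸ J)]

include hJ in
/-- Two points agreeing on the quotient and at the base point of a connected test algebra are equal. -/
theorem eq_of_prec_eq {T : Type u} [CommRing T] [Algebra k T]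
    (hT : ∀ e : T, IsIdempotentElem e → e = 0 ∨ e = 1) (εT : T →ₐ[k] k) {f g : Pt k A T}
    (hf : push εT f = 1) (hg : push εT g = 1) (h : prec ψ T f = prec ψ T g) : f = g := by
  have hn : InN J (f * g⁻¹) := inN_of_psi hJ fun b => by
    show (prec ψ T (f * g⁻¹)) b = _
    rw [map_mul, map_inv, h, mul_inv_cancel, Takeuchi.one_apply]
  rw [← mul_inv_eq_one]
  refine WithConv.ext (AlgHom.ext fun a => ?_)
  have h1 : (f * g⁻¹) a = algebraMap k T (εT ((f * g⁻¹) a)) :=
    map_eq_algebraMap hT εT (Takeuchi.bar hn) (Ideal.Quotient.mk J a)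
  have h2 : εT ((f * g⁻¹) a) = (1 : Pt k A k) a := by
    show (push εT (f * g⁻¹)) a = _
    rw [push_mul, push_inv, hf, hg, mul_inv_cancel]
  show (f * g⁻¹) a = (1 : Pt k A T) a
  rw [h1, h2, Takeuchi.one_apply, Takeuchi.one_apply, Algebra.algebraMap_self, RingHom.id_apply]

theorem push_counit_bialgHom {C : Type u} [CommRing C] [HopfAlgebra k C] (r : A →ₐc[k] C) :
    push (Bialgebra.counitAlgHom k C) (toConv (r : A →ₐ[k] C)) = (1 : Pt k A k) :=
  WithConv.ext (AlgHom.ext fun a => by
    show counit (R := k) (r a) = (1 : Pt k A k) a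
    rw [Takeuchi.one_apply]
    exact CoalgHomClass.counit_comp_apply r a)

include hJ in
/-- A retraction is unique when the kernel is finite étale and the quotient connected. -/
theorem retr_unique (hH : ∀ e : B, IsIdempotentElem e → e = 0 ∨ e = 1) (r r' : A →ₐc[k] B)
    (hr : r.comp ψ = BialgHom.id k B) (hr' : r'.comp ψ = BialgHom.id k B) : r = r' := by
  have h := eq_of_prec_eq J hJ hH (Bialgebra.counitAlgHom k B) (push_counit_bialgHom r) (push_counit_bialgHom r')
    (WithConv.ext (AlgHom.ext fun b => (congrArg (fun f : B →ₐc[k] B => f b) hr).trans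
      (congrArg (fun f : B →ₐc[k] B => f b) hr').symm))
  exact BialgHom.ext fun a => congrArg (fun f : Pt k A B => f a) h

end Groth.Agent.DiagUnip

namespace Groth.Agent.DiagUnip

open UnipLie

variable {k : Type u} [Field k] {A : Type u} [CommRing A] [HopfAlgebra k A] [Algebra.FiniteType k A]
variable {B : Type u} [CommRing B] [HopfAlgebra k B] [Algebra.FiniteType k B] {ψ : B →ₐc[k] A}

/-- The retraction exists when the kernel is étale and the quotient connected. -/
theorem exists_retr_etale (hB : SGA3b.IsMultTypeConst k B) (hψ : Function.Injective ψ) (J : Ideal A)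
    [J.IsHopfIdeal k] (hJ : J = Ideal.map (ψ : B →+* A) (RingHom.ker (Bialgebra.counitAlgHom k B)))
    (hU : HopfRep.IsUnipotent k (A ⧸ J)) [Algebra.Etale k (A ⧸ J)]
    (hH : ∀ e : B, IsIdempotentElem e → e = 0 ∨ e = 1) : ∃ r : A →ₐc[k] B, r.comp ψ = BialgHom.id k B := by
  let K := AlgebraicClosure k
  obtain ⟨M, _, ⟨G⟩⟩ := exists_GBasis (isDiag_bc K hB)
  haveI := isUnipotent_bc K J hU
  have hJ' := bcIdeal_eq K J ψ hJ
  obtain ⟨rK, hrK⟩ := exists_retraction G (bcHom K ψ) (bcHom_injective K ψ hψ) (bcIdeal K J) hJ'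
    (isUnipotent_bc K J hU)
  haveI : Module.Finite K (K ⊗[k] (A ⧸ J)) := Algebra.FormallyUnramified.finite_of_free K _
  haveI : IsReduced (K ⊗[k] (A ⧸ J)) := Algebra.FormallyUnramified.isReduced_of_field K _
  haveI : Module.Finite K ((K ⊗[k] A) ⧸ bcIdeal K J) :=
    Module.Finite.of_injective
      (((bcQuotHom (k := k) K J : _ →ₐc[K] _) : (K ⊗[k] A) ⧸ bcIdeal K J →ₐ[K] K ⊗[k] (A ⧸ J)).toLinearMap)
      (bcQuotHom_injective (k := k) K J)
  haveI : IsReduced ((K ⊗[k] A) ⧸ bcIdeal K J) :=
    isReduced_of_injective (bcQuotHom (k := k) K J) (bcQuotHom_injective (k := k) K J)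
  have hB' : ∀ e : K ⊗[k] B, IsIdempotentElem e → e = 0 ∨ e = 1 := idem_trivial_geometric hH
  -- the connected component of the identity
  let S : Set A := {e | IsIdempotentElem e ∧ counit (R := k) e = 0}
  let I₀ : Ideal A := Ideal.span S
  have hI : IsIdempotentElem I₀ := by
    refine le_antisymm Ideal.mul_le_left (Ideal.span_le.mpr fun e he => ?_)
    rw [SetLike.mem_coe, ← he.1.eq]
    exact Ideal.mul_mem_mul (Ideal.subset_span he) (Ideal.subset_span he)
  haveI : IsNoetherianRing A := Algebra.FiniteType.isNoetherianRing k A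
  obtain ⟨e₁, he₁, hI₁⟩ := (Ideal.isIdempotentElem_iff_of_fg I₀ (IsNoetherian.noetherian I₀)).mp hI
  have hεI : ∀ a ∈ I₀, counit (R := k) a = 0 := fun a ha =>
    (Ideal.span_le (I := RingHom.ker (Bialgebra.counitAlgHom k A)) (s := S)).mpr (fun e he => he.2) ha
  have hε₁ : counit (R := k) e₁ = 0 := hεI e₁ (hI₁ ▸ Ideal.mem_span_singleton_self e₁)
  let pr : A →ₐ[k] A ⧸ I₀ := Ideal.Quotient.mkₐ k I₀
  let εT : A ⧸ I₀ →ₐ[k] k := Ideal.Quotient.liftₐ I₀ (Bialgebra.counitAlgHom k A) hεI
  have hT : ∀ y : A ⧸ I₀, IsIdempotentElem y → y = 0 ∨ y = 1 := by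
    intro y hy
    obtain ⟨x, rfl⟩ := Ideal.Quotient.mk_surjective y
    have hsmall : ∀ x : A, IsIdempotentElem (Ideal.Quotient.mk I₀ x) → counit (R := k) x = 0 →
        Ideal.Quotient.mk I₀ x = 0 := by
      intro x hx hx0
      have hm : x * x - x ∈ Ideal.span {e₁} := by
        rw [← show I₀ = Ideal.span {e₁} from hI₁, ← Ideal.Quotient.eq_zero_iff_mem, map_sub, map_mul, hx.eq, sub_self]
      obtain ⟨c, hc⟩ := Ideal.mem_span_singleton'.mp hm
      have hid : IsIdempotentElem (x * (1 - e₁)) := by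
        rw [IsIdempotentElem]
        linear_combination (1 - e₁) ^ 2 * (-hc) + (x + c * (-1 + e₁)) * he₁.eq
      have hmem : x * (1 - e₁) ∈ I₀ := Ideal.subset_span ⟨hid, by
        rw [Bialgebra.counit_mul, hx0, zero_mul]⟩
      rw [Ideal.Quotient.eq_zero_iff_mem, show x = x * (1 - e₁) + x * e₁ by ring]
      exact add_mem hmem (Ideal.mul_mem_left _ _ (hI₁ ▸ Ideal.mem_span_singleton_self e₁))
    rcases IsIdempotentElem.iff_eq_zero_or_one.mp
        (show IsIdempotentElem (counit (R := k) x) from by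
          have := congrArg εT hy.eq
          rwa [map_mul] at this) with h | h
    · exact Or.inl (hsmall x hy h)
    · refine Or.inr (sub_eq_zero.mp ?_).symm
      rw [show (1 : A ⧸ I₀) - Ideal.Quotient.mk I₀ x = Ideal.Quotient.mk I₀ (1 - x) by simp]
      exact hsmall (1 - x) (by simpa using hy.one_sub) (by simp [h])
  have hkill : ∀ a ∈ I₀, rK ((1 : K) ⊗ₜ[k] a) = 0 := by
    intro a ha
    refine (Ideal.span_le (I := RingHom.ker ((rK : K ⊗[k] A →+* K ⊗[k] B).comp
      (inR (k := k) (A := A) K).toRingHom)) (s := S)).mpr (fun e he => ?_) ha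
    show rK ((1 : K) ⊗ₜ[k] e) = 0
    have hid : IsIdempotentElem (rK ((1 : K) ⊗ₜ[k] e)) := by
      rw [IsIdempotentElem, ← map_mul, Algebra.TensorProduct.tmul_mul_tmul, one_mul, he.1.eq]
    refine (hB' _ hid).resolve_right fun h1 => ?_
    have h2 := CoalgHomClass.counit_comp_apply rK ((1 : K) ⊗ₜ[k] e)
    rw [h1, Bialgebra.counit_one, TensorProduct.counit_tmul, he.2, zero_smul] at h2
    exact one_ne_zero h2
  -- the quotient maps onto the component
  have hTK : ∀ e : K ⊗[k] (A ⧸ I₀), IsIdempotentElem e → e = 0 ∨ e = 1 := fun e he =>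
    GRingCpl.idem_trivial_algClosure (fun L _ _ _ z hz => idem_trivial_finite εT hT L z hz) e he
  let prK : K ⊗[k] A →ₐ[K] K ⊗[k] (A ⧸ I₀) := Algebra.TensorProduct.map (AlgHom.id K K) pr
  let εK : K ⊗[k] (A ⧸ I₀) →ₐ[K] K :=
    (Algebra.TensorProduct.rid k K K).toAlgHom.comp (Algebra.TensorProduct.map (AlgHom.id K K) εT)
  let f : Pt K (K ⊗[k] A) (K ⊗[k] (A ⧸ I₀)) := toConv prK
  let g : Pt K (K ⊗[k] A) (K ⊗[k] (A ⧸ I₀)) :=
    toConv ((prK.comp (bcHom K ψ : K ⊗[k] B →ₐ[K] K ⊗[k] A)).comp (rK : K ⊗[k] A →ₐ[K] K ⊗[k] B))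
  have hεf : ∀ x, εK (prK x) = counit (R := K) x := fun x => by
    induction x using TensorProduct.induction_on with
    | zero => simp
    | tmul c a =>
      rw [TensorProduct.counit_tmul]
      simp [εK, prK, pr, εT]
    | add x y hx hy => simp only [map_add, hx, hy]
  have hfg : f = g := by
    refine eq_of_prec_eq (ψ := bcHom K ψ) (bcIdeal K J) hJ' hTK εK (WithConv.ext (AlgHom.ext fun x => ?_))
      (WithConv.ext (AlgHom.ext fun x => ?_)) (WithConv.ext (AlgHom.ext fun b => ?_))
    · show εK (prK x) = (1 : Pt K (K ⊗[k] A) K) x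
      rw [Takeuchi.one_apply, hεf]; rfl
    · show εK (prK (bcHom K ψ (rK x))) = (1 : Pt K (K ⊗[k] A) K) x
      rw [Takeuchi.one_apply, hεf, CoalgHomClass.counit_comp_apply, CoalgHomClass.counit_comp_apply]; rfl
    · show prK (bcHom K ψ b) = prK (bcHom K ψ (rK (bcHom K ψ b)))
      rw [show rK (bcHom K ψ b) = b from congrArg (fun h : K ⊗[k] B →ₐc[K] K ⊗[k] B => h b) hrK]
  have hsurj : Function.Surjective ((pr.comp (ψ : B →ₐ[k] A)).toLinearMap) := by
    rw [← Module.FaithfullyFlat.lTensor_surjective_iff_surjective k K]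
    intro y
    obtain ⟨x, rfl⟩ := LinearMap.lTensor_surjective K (g := pr.toLinearMap) Ideal.Quotient.mk_surjective y
    refine ⟨rK x, ?_⟩
    refine Eq.trans ?_ (congrArg (fun h : Pt K (K ⊗[k] A) (K ⊗[k] (A ⧸ I₀)) => h x) hfg).symm
    show (pr.comp (ψ : B →ₐ[k] A)).toLinearMap.lTensor K (rK x) = prK (bcHom K ψ (rK x))
    generalize rK x = t
    induction t using TensorProduct.induction_on with
    | zero => simp
    | tmul c b => rfl
    | add s t hs ht => simp only [map_add, hs, ht]
  refine descend_retr K rK hrK fun a => ?_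
  obtain ⟨b, hb⟩ := hsurj (pr a)
  refine ⟨b, ?_⟩
  have h0 : rK ((1 : K) ⊗ₜ[k] (a - ψ b)) = 0 := hkill _ (Ideal.Quotient.eq.mp hb.symm)
  rw [TensorProduct.tmul_sub, map_sub, sub_eq_zero] at h0
  rw [h0]
  exact congrArg (fun h : K ⊗[k] B →ₐc[K] K ⊗[k] B => h ((1 : K) ⊗ₜ[k] b)) hrK

end Groth.Agent.DiagUnip
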