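import Groth.Agent.DiagUnip.Minimal
import Mathlib.RingTheory.Ideal.Quotient.Operations

/-!
# Adjoining a skew primitive element to a sub-Hopf algebra
-/

set_option autoImplicit false
set_option backward.isDefEq.respectTransparency false

universe u v

open TensorProduct Coalgebra Polynomial

noncomputable section

namespace Groth.Agent.DiagUnip

open Groth.Agent.Comod Groth.Agent.FlatSub Groth.Agent.FinHopf

variable {k : Type u} [Field k] {A : Type u} [CommRing A] [HopfAlgebra k A]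
variable {B : Type u} [CommRing B] [HopfAlgebra k B] {M : Type u} [CommGroup M] {G : GBasis k B M}
  {ψ : B →ₐc[k] A} {C : Subalgebra k A}

namespace Skew

variable (s : Skew G ψ C)

/-- Evaluation of polynomials over the sub-Hopf algebra. -/
abbrev ev : C[X] →ₐ[k] A := (aeval (R := C) s.y).restrictScalars k

/-- The enlarged subalgebra. -/
def C' : Subalgebra k A := s.ev.range

theorem le_C' : C ≤ s.C' := fun c hc => ⟨Polynomial.C ⟨c, hc⟩, by simp [ev]⟩

theorem y_mem : s.y ∈ s.C' := ⟨X, by simp [ev]⟩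

theorem C'_le {S : Subalgebra k A} (h1 : C ≤ S) (h2 : s.y ∈ S) : s.C' ≤ S := by
  rintro _ ⟨P, rfl⟩
  show aeval s.y P ∈ S
  rw [aeval_eq_sum_range]
  refine S.sum_mem fun i _ => ?_
  rw [Algebra.smul_def]
  exact S.mul_mem (h1 (P.coeff i).2) (S.pow_mem h2 i)

/-- The inclusion of tensor squares. -/
abbrev incl' : C ⊗[k] C →ₐ[k] s.C' ⊗[k] s.C' :=
  Algebra.TensorProduct.map (Subalgebra.inclusion s.le_C') (Subalgebra.inclusion s.le_C')

theorem subIncl₂_incl' (t : C ⊗[k] C) : subIncl₂ s.C' (s.incl' t) = subIncl₂ C t := by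
  induction t using TensorProduct.induction_on with
  | zero => simp
  | tmul x y => simp [subIncl₂]
  | add x y hx hy => simp only [map_add, hx, hy]

theorem isSubHopf (hC : IsSubHopf k C) (hmem : ∀ b, ψ b ∈ C) : IsSubHopf k s.C' := by
  refine ⟨fun a ha => ?_, fun a ha => ?_⟩
  · refine s.C'_le (S := (subIncl₂ s.C').range.comap (Bialgebra.comulAlgHom k A)) (fun c hc => ?_) ?_ ha
    · obtain ⟨t, ht⟩ := hC.1 c hc
      exact ⟨s.incl' t, (s.subIncl₂_incl' t).trans ht⟩
    · refine ⟨(⟨_, s.y_mem⟩ : s.C') ⊗ₜ (⟨ψ (G.e s.μ), s.le_C' (hmem _)⟩ : s.C') + 1 ⊗ₜ ⟨_, s.y_mem⟩ + s.incl' s.D, ?_⟩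
      show subIncl₂ s.C' _ = Bialgebra.comulAlgHom k A s.y
      rw [map_add, map_add, subIncl₂_incl', Bialgebra.comulAlgHom_apply, s.comul_y]
      simp [subIncl₂]
  · refine s.C'_le (S := s.C'.comap (HopfAlgebra.antipodeAlgHom k A)) (fun c hc => s.le_C' (hC.2 c hc)) ?_ ha
    show HopfAlgebra.antipode k s.y ∈ s.C'
    have h := HopfAlgebra.mul_antipode_rTensor_comul_apply (R := k) s.y
    rw [s.comul_y, map_add, map_add, map_add, map_add, LinearMap.rTensor_tmul, LinearMap.rTensor_tmul,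
      LinearMap.mul'_apply, LinearMap.mul'_apply, HopfAlgebra.antipode_one, one_mul] at h
    have hD : LinearMap.mul' k A ((HopfAlgebra.antipode k).rTensor A (subIncl₂ C s.D)) ∈ C := by
      generalize s.D = t
      induction t using TensorProduct.induction_on with
      | zero => simp
      | tmul x y => simpa [subIncl₂] using C.mul_mem (hC.2 _ x.2) y.2
      | add x y hx hy => simp only [map_add]; exact C.add_mem hx hy
    have h2 : ψ (G.e s.μ) * ψ (G.e s.μ⁻¹) = 1 := by rw [← map_mul, G.mul_inv, map_one]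
    rw [← mul_one (HopfAlgebra.antipode k s.y), ← h2, ← mul_assoc,
      show HopfAlgebra.antipode k s.y * ψ (G.e s.μ) = algebraMap k A (counit (R := k) s.y) - s.y -
        LinearMap.mul' k A ((HopfAlgebra.antipode k).rTensor A (subIncl₂ C s.D)) by rw [← h]; abel]
    exact s.C'.mul_mem (s.C'.sub_mem (s.C'.sub_mem (s.C'.algebraMap_mem _) s.y_mem) (s.le_C' hD))
      (s.le_C' (hmem _))

/-- Homomorphisms out of the enlarged subalgebra. -/
theorem exists_extend {S : Type v} [CommRing S] [Algebra k S] (f : C →ₐ[k] S) (e : S)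
    (hrel : ∀ P : C[X], aeval s.y P = 0 → P.eval₂ (f : C →+* S) e = 0) :
    ∃ g : s.C' →ₐ[k] S, (∀ c : C, g (Subalgebra.inclusion s.le_C' c) = f c) ∧ g ⟨_, s.y_mem⟩ = e := by
  let ev₂ : C[X] →ₐ[k] S :=
    { Polynomial.eval₂RingHom (f : C →+* S) e with
      commutes' := fun r => by
        show eval₂ _ _ (algebraMap k C[X] r) = _
        rw [IsScalarTower.algebraMap_apply k C C[X], ← Polynomial.C_eq_algebraMap, eval₂_C]
        exact f.commutes r }
  have hsurj : Function.Surjective s.ev.rangeRestrict := s.ev.rangeRestrict_surjective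
  let g : s.C' →ₐ[k] S := AlgHom.liftOfSurjective s.ev.rangeRestrict hsurj ev₂
    fun P hP => RingHom.mem_ker.2 (hrel P (congrArg Subtype.val (RingHom.mem_ker.1 hP)))
  have hg : ∀ P : C[X], g (s.ev.rangeRestrict P) = ev₂ P := fun P => AlgHom.liftOfSurjective_apply ..
  refine ⟨g, fun c => ?_, ?_⟩
  · have h1 : (Subalgebra.inclusion s.le_C' c : s.C') = s.ev.rangeRestrict (Polynomial.C c) :=
      Subtype.ext (by show (c : A) = aeval s.y (Polynomial.C c); rw [aeval_C]; rfl)
    rw [h1, hg]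
    exact eval₂_C _ _
  · have h1 : (⟨_, s.y_mem⟩ : s.C') = s.ev.rangeRestrict X :=
      Subtype.ext (by show s.y = aeval s.y (X : C[X]); rw [aeval_X])
    rw [h1, hg]
    exact eval₂_X _ _

variable (R : Retr ψ C) (hs : Algebra.TensorProduct.map R.r R.r s.D = 0)

include hs in
/-- The retraction extends along a root of the relations. -/
theorem exists_retr (hC : IsSubHopf k C) (e : B) (hrel : ∀ P : C[X], aeval s.y P = 0 → P.eval₂ (R.r : C →+* B) e = 0)
    (he : comul (R := k) e = e ⊗ₜ[k] G.e s.μ + (1 : B) ⊗ₜ[k] e) :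
    ∃ R' : Retr ψ s.C', ∀ c : C, R'.r (Subalgebra.inclusion s.le_C' c) = R.r c := by
  obtain ⟨g, hg, hgy⟩ := s.exists_extend R.r e hrel
  have heps : counit (R := k) e = 0 := by
    have h := congrArg (fun t => counit (R := k) (TensorProduct.rid k B ((counit (R := k) (A := B)).lTensor B t))) he
    simp only [Coalgebra.lTensor_counit_comul, map_add, LinearMap.lTensor_tmul, TensorProduct.rid_tmul, one_smul,
      G.counit', map_smul, Bialgebra.counit_one, smul_eq_mul, mul_one] at h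
    exact left_eq_add.1 h
  have hgψ : ∀ b, g ⟨ψ b, s.le_C' (R.mem b)⟩ = b := fun b => (hg ⟨ψ b, R.mem b⟩).trans (R.retr b)
  have hcy : counit (R := k) s.y = 0 := (counit_y s hs).1
  let ι : C →ₐ[k] s.C' := Subalgebra.inclusion s.le_C'
  have hε : ∀ c : s.C', counit (R := k) (g c) = counit (R := k) (c : A) := by
    intro c
    have h := s.C'_le (S := (AlgHom.equalizer ((Bialgebra.counitAlgHom k B).comp g)
      ((Bialgebra.counitAlgHom k A).comp s.C'.val)).map s.C'.val)
      (fun x hx => ⟨ι ⟨x, hx⟩, show counit (R := k) (g (ι ⟨x, hx⟩)) = counit (R := k) x by rw [hg]; exact R.counit' _,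
        rfl⟩)
      ⟨⟨_, s.y_mem⟩, show counit (R := k) (g ⟨_, s.y_mem⟩) = counit (R := k) s.y by rw [hgy, heps, hcy], rfl⟩ c.2
    obtain ⟨c₀, h1, h2⟩ := h
    exact Subtype.ext (a1 := c₀) (a2 := c) h2 ▸ h1
  have hC' := s.isSubHopf hC R.mem
  have hΔ' : ∀ b ∈ s.C', comul (R := k) b ∈ (subIncl₂ s.C').range := fun b hb => by
    obtain ⟨t, ht⟩ := hC'.1 b hb
    exact ⟨t, ht⟩
  have hD : Algebra.TensorProduct.map g g (s.incl' s.D) = 0 := by
    rw [← hs, ← AlgHom.comp_apply, incl', ← Algebra.TensorProduct.map_comp,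
      show g.comp (Subalgebra.inclusion s.le_C') = R.r from AlgHom.ext hg]
  have hmul : (Algebra.TensorProduct.map g g).comp (subComul s.C' hΔ') = (Bialgebra.comulAlgHom k B).comp g := by
    refine AlgHom.ext fun c => ?_
    have h := s.C'_le (S := (AlgHom.equalizer ((Algebra.TensorProduct.map g g).comp (subComul s.C' hΔ'))
      ((Bialgebra.comulAlgHom k B).comp g)).map s.C'.val)
      (fun x hx => ⟨ι ⟨x, hx⟩, ?_, rfl⟩) ⟨⟨_, s.y_mem⟩, ?_, rfl⟩ c.2
    · obtain ⟨c₀, h1, h2⟩ := h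
      exact Subtype.ext (a1 := c₀) (a2 := c) h2 ▸ h1
    · obtain ⟨t, ht⟩ := hC.1 x hx
      have e1 : subComul s.C' hΔ' (ι ⟨x, hx⟩) = s.incl' t :=
        subIncl₂_injective _ ((subIncl₂_subComul _ _ _).trans (((s.subIncl₂_incl' t).trans ht).symm))
      show Algebra.TensorProduct.map g g (subComul s.C' hΔ' (ι ⟨x, hx⟩)) = comul (R := k) (g (ι ⟨x, hx⟩))
      rw [e1, hg, ← R.comul' ⟨x, hx⟩ t ht, ← AlgHom.comp_apply, incl', ← Algebra.TensorProduct.map_comp,
        show g.comp (Subalgebra.inclusion s.le_C') = R.r from AlgHom.ext hg]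
    · have e1 : subComul s.C' hΔ' ⟨_, s.y_mem⟩ =
          (⟨_, s.y_mem⟩ : s.C') ⊗ₜ (⟨ψ (G.e s.μ), s.le_C' (R.mem _)⟩ : s.C') + 1 ⊗ₜ ⟨_, s.y_mem⟩ + s.incl' s.D := by
        refine subIncl₂_injective _ ((subIncl₂_subComul _ _ _).trans ?_)
        rw [map_add, map_add, subIncl₂_incl', s.comul_y]
        simp [subIncl₂]
      show Algebra.TensorProduct.map g g (subComul s.C' hΔ' ⟨_, s.y_mem⟩) = comul (R := k) (g ⟨_, s.y_mem⟩)
      rw [e1, map_add, map_add, hD, add_zero, Algebra.TensorProduct.map_tmul, Algebra.TensorProduct.map_tmul,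
        map_one, hgψ, hgy, he]
  refine ⟨⟨g, fun b => s.le_C' (R.mem b), hgψ, hε, fun c t ht => ?_⟩, hg⟩
  rw [show t = subComul s.C' hΔ' c from subIncl₂_injective _ (ht.trans (subIncl₂_subComul _ _ _).symm)]
  exact AlgHom.congr_fun hmul c

end Skew

end Groth.Agent.DiagUnip
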