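import Groth.Agent.DiagUnip.Skew
import Groth.Agent.DiagUnip.Additive
import Mathlib.RingTheory.PowerBasis
import Mathlib.Algebra.Polynomial.Div
import Mathlib.RingTheory.Algebraic.Integral

/-!
# Relations satisfied by a skew primitive element
-/

set_option autoImplicit false
set_option backward.isDefEq.respectTransparency false

universe u v

open TensorProduct Coalgebra Polynomial

noncomputable section

namespace Groth.Agent.DiagUnip

open Groth.Agent.Comod Groth.Agent.FlatSub Groth.Agent.FinHopf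

variable {k : Type u} [Field k] {A : Type u} [CommRing A] [HopfAlgebra k A]
variable {B : Type u} [CommRing B] [HopfAlgebra k B] {M : Type u} [CommGroup M] {G : GBasis k B M}
  {ψ : B →ₐc[k] A} {C : Subalgebra k A}

namespace Skew

variable (s : Skew G ψ C)

/-- The restriction to the kernel. -/
abbrev ybar : A ⧸ aug C := prj C s.y

theorem map_counit_subIncl (t : C ⊗[k] C) :
    ∃ c ∈ C, TensorProduct.rid k A ((counit (R := k) (A := A)).lTensor A (subIncl₂ C t)) = c := by
  induction t using TensorProduct.induction_on with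
  | zero => exact ⟨0, C.zero_mem, by simp⟩
  | tmul x y => exact ⟨counit (R := k) (y : A) • (x : A), C.smul_mem x.2 _, by simp [subIncl₂]⟩
  | add x y hx hy =>
    obtain ⟨a, ha, ea⟩ := hx
    obtain ⟨b, hb, eb⟩ := hy
    exact ⟨a + b, C.add_mem ha hb, by simp only [map_add, ea, eb]⟩

variable {R : Retr ψ C} (hs : Algebra.TensorProduct.map R.r R.r s.D = 0)

include hs in
theorem counit_y : counit (R := k) s.y = 0 ∧
    TensorProduct.rid k A ((counit (R := k) (A := A)).lTensor A (subIncl₂ C s.D)) = 0 := by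
  have h := congrArg (TensorProduct.rid k A) (Coalgebra.lTensor_counit_comul (R := k) s.y)
  have hγ : counit (R := k) (ψ (G.e s.μ)) = 1 := (CoalgHomClass.counit_comp_apply ψ _).trans (G.counit' _)
  simp only [s.comul_y, map_add, LinearMap.lTensor_tmul, TensorProduct.rid_tmul, one_smul, hγ, add_assoc,
    add_eq_left] at h
  have h2 := congrArg (counit (R := k) (A := A)) h
  have h3 : ∀ t : C ⊗[k] C,
      counit (R := k) (TensorProduct.rid k A ((counit (R := k) (A := A)).lTensor A (subIncl₂ C t))) =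
        LinearMap.mul' k k (TensorProduct.map (counit (R := k) (A := B)) (counit (R := k) (A := B))
          (Algebra.TensorProduct.map R.r R.r t)) := by
    intro t
    induction t using TensorProduct.induction_on with
    | zero => simp
    | tmul x y => simp [subIncl₂, R.counit', mul_comm]
    | add x y hx hy => simp only [map_add, hx, hy]
  rw [map_add, h3, hs, map_zero, map_zero, add_zero, map_smul, Bialgebra.counit_one, smul_eq_mul, mul_one,
    map_zero] at h2
  refine ⟨h2, ?_⟩
  rw [h2, zero_smul, zero_add] at h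
  exact h

include hs in
theorem dbar_y (hC : IsSubHopf k C) :
    Takeuchi.dbar (k := k) (aug C) s.y = s.y ⊗ₜ[k] (1 : A ⧸ aug C) + (1 : A) ⊗ₜ[k] s.ybar := by
  show Algebra.TensorProduct.map (AlgHom.id k A) (prj C) (comul (R := k) s.y) = _
  have h : ∀ t : C ⊗[k] C, Algebra.TensorProduct.map (AlgHom.id k A) (prj C) (subIncl₂ C t) =
      (TensorProduct.rid k A ((counit (R := k) (A := A)).lTensor A (subIncl₂ C t))) ⊗ₜ[k] (1 : A ⧸ aug C) := by
    intro t
    induction t using TensorProduct.induction_on with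
    | zero => simp
    | tmul x y =>
      simp only [subIncl₂, Algebra.TensorProduct.map_tmul, Subalgebra.coe_val, AlgHom.id_apply,
        LinearMap.lTensor_tmul, TensorProduct.rid_tmul]
      rw [prj_of_mem y.2, Algebra.algebraMap_eq_smul_one, TensorProduct.tmul_smul, TensorProduct.smul_tmul']
    | add x y hx hy => simp only [map_add, hx, hy, TensorProduct.add_tmul]
  rw [s.comul_y, map_add, map_add, h, (counit_y s hs).2, Algebra.TensorProduct.map_tmul,
    Algebra.TensorProduct.map_tmul, prj_of_mem (R.mem _), CoalgHomClass.counit_comp_apply, G.counit']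
  simp [ybar]

include hs in
theorem prj_prj_y (hC : IsSubHopf k C) :
    Algebra.TensorProduct.map (prj C) (prj C) (comul (R := k) s.y) =
      s.ybar ⊗ₜ[k] (1 : A ⧸ aug C) + (1 : A ⧸ aug C) ⊗ₜ[k] s.ybar := by
  have h : ∀ t : A ⊗[k] A, Algebra.TensorProduct.map (prj C) (prj C) t =
      Algebra.TensorProduct.map (prj C) (AlgHom.id k (A ⧸ aug C))
        (Algebra.TensorProduct.map (AlgHom.id k A) (prj C) t) := by
    intro t
    induction t using TensorProduct.induction_on with
    | zero => simp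
    | tmul x y => simp
    | add x y hx hy => simp only [map_add, hx, hy]
  rw [h, show Algebra.TensorProduct.map (AlgHom.id k A) (prj C) (comul (R := k) s.y) = _ from dbar_y s hs hC,
    map_add, Algebra.TensorProduct.map_tmul, Algebra.TensorProduct.map_tmul]
  simp [ybar]

include hs in
/-- Independence of powers on the kernel lifts. -/
theorem indep (hC : IsSubHopf k C) {n : ℕ} (hn : LinearIndependent k fun i : Fin n => s.ybar ^ (i : ℕ))
    {P : C[X]} (hP : P.degree < n) (h0 : aeval s.y P = 0) : P = 0 := by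
  by_contra hne
  have hm : P.natDegree < n := (Polynomial.natDegree_lt_iff_degree_lt hne).2 hP
  obtain ⟨f, hf⟩ := LinearMap.exists_extend (Finsupp.lapply (⟨P.natDegree, hm⟩ : Fin n) ∘ₗ hn.repr)
  have hfj : ∀ j, j < n → f (s.ybar ^ j) = if j = P.natDegree then 1 else 0 := by
    intro j hj
    have h1 := LinearMap.congr_fun hf ⟨s.ybar ^ j, Submodule.subset_span ⟨⟨j, hj⟩, rfl⟩⟩
    refine h1.trans ?_
    rw [LinearMap.comp_apply, Finsupp.lapply_apply, hn.repr_eq_single ⟨j, hj⟩ _ rfl]
    simp [Finsupp.single_apply, Fin.ext_iff]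
  let T : A →ₗ[k] A := cR f ∘ₗ (Takeuchi.dbar (k := k) (aug C)).toLinearMap
  have hT : ∀ (c : C) (i : ℕ), i ≤ P.natDegree →
      T ((c : A) * s.y ^ i) = if i = P.natDegree then (c : A) else 0 := by
    intro c i hi
    show cR f (Takeuchi.dbar (k := k) (aug C) ((c : A) * s.y ^ i)) = _
    rw [map_mul, map_pow, dbar_of_mem hC c.2, dbar_y s hs hC, add_pow, Finset.mul_sum, map_sum]
    have e : ∀ j ∈ Finset.range (i + 1), cR f ((c : A) ⊗ₜ[k] (1 : A ⧸ aug C) *
        ((s.y ⊗ₜ[k] (1 : A ⧸ aug C)) ^ j * ((1 : A) ⊗ₜ[k] s.ybar) ^ (i - j) * (i.choose j : A ⊗[k] (A ⧸ aug C)))) =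
        if i - j = P.natDegree then (i.choose j) • ((c : A) * s.y ^ j) else 0 := by
      intro j hj
      rw [← nsmul_eq_mul', mul_smul_comm, map_nsmul, Algebra.TensorProduct.tmul_pow, Algebra.TensorProduct.tmul_pow,
        one_pow, one_pow, Algebra.TensorProduct.tmul_mul_tmul, Algebra.TensorProduct.tmul_mul_tmul, mul_one, one_mul,
        one_mul, cR_tmul, hfj _ (by omega)]
      split_ifs <;> simp
    rw [Finset.sum_congr rfl e]
    split_ifs with h
    · rw [Finset.sum_eq_single 0 (fun j hj hj0 => if_neg (by have := Finset.mem_range.1 hj; omega)) (by simp)]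
      simp [h]
    · exact Finset.sum_eq_zero fun j hj => if_neg (by omega)
  have h1 := congrArg T h0
  rw [aeval_eq_sum_range, map_sum, map_zero,
    Finset.sum_eq_single P.natDegree (fun i hi hne' => ?_) (by simp)] at h1
  · rw [Algebra.smul_def, show algebraMap C A (P.coeff P.natDegree) = (P.coeff P.natDegree : A) from rfl,
      hT _ _ le_rfl, if_pos rfl] at h1
    exact hne (leadingCoeff_eq_zero.1 (Subtype.ext h1))
  · rw [Algebra.smul_def, show algebraMap C A (P.coeff i) = (P.coeff i : A) from rfl,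
      hT _ _ (by have := Finset.mem_range.1 hi; omega), if_neg hne']

/-- The minimal relation. -/
structure MinRel where
  φ : k[X]
  eq_minpoly : φ = minpoly k s.ybar
  monic : φ.Monic
  pos : 0 < φ.natDegree
  aeval_ybar : aeval s.ybar φ = 0
  isAdd : IsAdd φ
  mem : aeval s.y φ ∈ C
  pow_eq : ∀ i, φ.coeff i • G.e s.μ ^ i = φ.coeff i • G.e s.μ ^ φ.natDegree
  comul_z : ∀ t : C ⊗[k] C, t = (⟨_, mem⟩ : C) ⊗ₜ[k] (⟨ψ (G.e s.μ ^ φ.natDegree), R.mem _⟩ : C) +
      (1 : C) ⊗ₜ[k] (⟨_, mem⟩ : C) + aeval s.D φ → subIncl₂ C t = comul (R := k) (aeval s.y φ)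
  rel_zero : ∀ P : C[X], P.degree < φ.natDegree → aeval s.y P = 0 → P = 0

theorem MinRel.eval₂_eq_zero {s : Skew G ψ C} (m : MinRel s (R := R)) {S : Type v} [CommRing S] [Algebra k S]
    (f : C →ₐ[k] S) (e : S) (he : aeval e m.φ = f ⟨_, m.mem⟩) {P : C[X]} (hP : aeval s.y P = 0) :
    P.eval₂ (f : C →+* S) e = 0 := by
  let Φ : C[X] := m.φ.map (algebraMap k C) - Polynomial.C ⟨_, m.mem⟩
  haveI : Nontrivial A := (Bialgebra.counitAlgHom k A).toRingHom.domain_nontrivial
  haveI : Nontrivial C := ⟨⟨0, 1, fun h => zero_ne_one (congrArg Subtype.val h)⟩⟩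
  have hdeg : (Polynomial.C (⟨_, m.mem⟩ : C)).degree < (m.φ.map (algebraMap k C)).degree := by
    rw [degree_map_eq_of_injective (algebraMap k C).injective, degree_eq_natDegree m.monic.ne_zero]
    exact degree_C_le.trans_lt (Nat.cast_pos.2 m.pos)
  have hΦ : Φ.Monic := (m.monic.map _).sub_of_left hdeg
  have hdΦ : Φ.degree = m.φ.natDegree := by
    rw [degree_sub_eq_left_of_degree_lt hdeg, degree_map_eq_of_injective (algebraMap k C).injective,
      degree_eq_natDegree m.monic.ne_zero]
  have hyΦ : aeval s.y Φ = 0 := by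
    rw [map_sub, aeval_map_algebraMap, aeval_C]
    exact sub_self _
  have hR : P %ₘ Φ = 0 := by
    refine m.rel_zero _ (hdΦ ▸ degree_modByMonic_lt P hΦ) ?_
    have h := congrArg (aeval s.y) (modByMonic_add_div P Φ)
    rw [map_add, map_mul, hyΦ, zero_mul, add_zero, hP] at h
    exact h
  rw [← modByMonic_add_div P Φ, hR, zero_add, eval₂_mul, eval₂_sub, eval₂_map, eval₂_C,
    show (f : C →+* S).comp (algebraMap k C) = algebraMap k S from f.comp_algebraMap, ← aeval_def, he]
  simp

include hs in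
/-- An element integral on the kernel has an additive minimal relation. -/
theorem exists_minRel_of_integral [Algebra.FiniteType k A] (hψ : Function.Injective ψ) (hC : IsSubHopf k C)
    (hint : IsIntegral k s.ybar) :
    Nonempty (MinRel s (R := R)) := by
  set φ := minpoly k s.ybar with hφ
  set d := φ.natDegree with hd
  have hli : LinearIndependent k fun i : Fin d => s.ybar ^ (i : ℕ) := linearIndependent_pow _
  have hmonic : φ.Monic := minpoly.monic hint
  haveI : Nontrivial A := (Bialgebra.counitAlgHom k A).toRingHom.domain_nontrivial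
  haveI : Nontrivial (A ⧸ aug C) := by
    refine Ideal.Quotient.nontrivial_iff.2 fun h => ?_
    have : (1 : A) ∈ RingHom.ker (Bialgebra.counitAlgHom k A) := by
      refine (Ideal.span_le.2 ?_ : aug C ≤ _) (show (1 : A) ∈ aug C by rw [h]; trivial)
      rintro c ⟨-, h0⟩
      exact h0
    simp at this
  have hpos : 0 < d := minpoly.natDegree_pos hint
  have hyb0 : aeval s.ybar φ = 0 := minpoly.aeval k s.ybar
  have hmemI : aeval s.y φ ∈ aug C := by
    refine Ideal.Quotient.eq_zero_iff_mem.1 ?_
    show prj C (aeval s.y φ) = 0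
    rw [← aeval_algHom_apply]
    exact hyb0
  have hcoef0 : φ.coeff 0 = 0 := by
    have h : Bialgebra.counitAlgHom k A (aeval s.y φ) = 0 := by
      refine (Ideal.span_le.2 ?_ : aug C ≤ RingHom.ker (Bialgebra.counitAlgHom k A)) hmemI
      rintro c ⟨-, h0⟩
      exact h0
    rw [← aeval_algHom_apply] at h
    rwa [show Bialgebra.counitAlgHom k A s.y = 0 from (counit_y s hs).1, ← coeff_zero_eq_aeval_zero] at h
  have hdual : ∀ a, a < d → ∃ f : A ⧸ aug C →ₗ[k] k, ∀ j, j < d → f (s.ybar ^ j) = if j = a then 1 else 0 := by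
    intro a ha
    obtain ⟨f, hf⟩ := LinearMap.exists_extend (Finsupp.lapply (⟨a, ha⟩ : Fin d) ∘ₗ hli.repr)
    refine ⟨f, fun j hj => ?_⟩
    have h1 := LinearMap.congr_fun hf ⟨s.ybar ^ j, Submodule.subset_span ⟨⟨j, hj⟩, rfl⟩⟩
    refine h1.trans ?_
    rw [LinearMap.comp_apply, Finsupp.lapply_apply, hli.repr_eq_single ⟨j, hj⟩ _ rfl]
    simp [Finsupp.single_apply, Fin.ext_iff]
  have hadd : IsAdd φ := by
    refine ⟨hcoef0, fun i j hj hji => ?_⟩
    rcases lt_or_ge d i with hdi | hdi
    · rw [coeff_eq_zero_of_natDegree_lt hdi, zero_mul]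
    obtain ⟨f, hf⟩ := hdual j (by omega)
    obtain ⟨g, hg⟩ := hdual (i - j) (by omega)
    let L : (A ⧸ aug C) ⊗[k] (A ⧸ aug C) →ₗ[k] k := LinearMap.mul' k k ∘ₗ TensorProduct.map f g
    have h := congrArg L (prj_prj_comul hC hmemI)
    rw [show comul (R := k) (aeval s.y φ) = Bialgebra.comulAlgHom k A (aeval s.y φ) from rfl, ← aeval_algHom_apply,
      ← aeval_algHom_apply, Bialgebra.comulAlgHom_apply, prj_prj_y s hs hC, map_zero, aeval_eq_sum_range,
      map_sum] at h
    have e : ∀ n ∈ Finset.range (d + 1), L (φ.coeff n •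
        (s.ybar ⊗ₜ[k] (1 : A ⧸ aug C) + (1 : A ⧸ aug C) ⊗ₜ[k] s.ybar) ^ n) =
        if n = i then φ.coeff i * (i.choose j : k) else 0 := by
      intro n hn
      rw [map_smul, add_pow, map_sum]
      have e2 : ∀ l ∈ Finset.range (n + 1), L ((s.ybar ⊗ₜ[k] (1 : A ⧸ aug C)) ^ l *
          ((1 : A ⧸ aug C) ⊗ₜ[k] s.ybar) ^ (n - l) * (n.choose l : (A ⧸ aug C) ⊗[k] (A ⧸ aug C))) =
          if l = j ∧ n - l = i - j then (n.choose l : k) else 0 := by
        intro l hl
        rw [← nsmul_eq_mul', map_nsmul, Algebra.TensorProduct.tmul_pow, Algebra.TensorProduct.tmul_pow,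
          one_pow, one_pow, Algebra.TensorProduct.tmul_mul_tmul, mul_one, one_mul]
        simp only [L, LinearMap.comp_apply, TensorProduct.map_tmul, LinearMap.mul'_apply]
        have hn' := Finset.mem_range.1 hn
        have hl' := Finset.mem_range.1 hl
        rcases Nat.lt_or_ge l d with h1 | h1
        · rcases Nat.lt_or_ge (n - l) d with h2 | h2
          · rw [hf l h1, hg _ h2]
            by_cases e1 : l = j
            · subst e1
              by_cases e3 : n - l = i - l <;> simp [e3]
            · simp [e1]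
          · rw [hf l h1, if_neg (by omega), if_neg (by omega), zero_mul, smul_zero]
        · rw [show n - l = 0 by omega, hg 0 hpos, if_neg (by omega), if_neg (by omega), mul_zero, smul_zero]
      rw [Finset.sum_congr rfl e2]
      split_ifs with hni
      · subst hni
        rw [Finset.sum_eq_single j (fun l hl hlj => if_neg (fun h => hlj h.1))
          (fun h => absurd (Finset.mem_range.2 (by omega)) h), if_pos ⟨rfl, rfl⟩, smul_eq_mul]
      · rw [Finset.sum_eq_zero fun l hl => if_neg (fun h => hni (by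
          have := Finset.mem_range.1 hl; omega)), smul_zero]
    rw [Finset.sum_congr rfl e, Finset.sum_ite_eq' (Finset.range (d + 1)) i (fun _ => φ.coeff i * (i.choose j : k)),
      if_pos (Finset.mem_range.2 (by omega))] at h
    exact h
  have hz : aeval s.y φ ∈ C := by
    refine mem_of_dbar hC ?_
    rw [← aeval_algHom_apply, dbar_y s hs hC, hadd.aeval_add,
      show (1 : A) ⊗ₜ[k] s.ybar = (Algebra.TensorProduct.includeRight : A ⧸ aug C →ₐ[k] A ⊗[k] (A ⧸ aug C)) s.ybar
        from rfl,
      show s.y ⊗ₜ[k] (1 : A ⧸ aug C) = (Algebra.TensorProduct.includeLeft : A →ₐ[k] A ⊗[k] (A ⧸ aug C)) s.y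
        from rfl,
      aeval_algHom_apply, aeval_algHom_apply, hyb0, map_zero, add_zero]
    rfl
  let zC : C := ⟨_, hz⟩
  obtain ⟨tz, htz⟩ := hC.1 _ hz
  have hrel : ∀ P : C[X], P.degree < d → aeval s.y P = 0 → P = 0 := fun P hP h0 => indep s hs hC hli hP h0
  have hΔ : comul (R := k) (aeval s.y φ) = aeval (s.y ⊗ₜ[k] ψ (G.e s.μ)) φ + (1 : A) ⊗ₜ[k] aeval s.y φ +
      subIncl₂ C (aeval s.D φ) := by
    rw [show comul (R := k) (aeval s.y φ) = Bialgebra.comulAlgHom k A (aeval s.y φ) from rfl, ← aeval_algHom_apply,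
      Bialgebra.comulAlgHom_apply, s.comul_y, hadd.aeval_add, hadd.aeval_add,
      show (1 : A) ⊗ₜ[k] s.y = (Algebra.TensorProduct.includeRight : A →ₐ[k] A ⊗[k] A) s.y from rfl,
      aeval_algHom_apply, aeval_algHom_apply]
    rfl
  have hcoefγ : ∀ i, φ.coeff i • ψ (G.e s.μ) ^ i = φ.coeff i • ψ (G.e s.μ) ^ d := by
    intro i
    rcases lt_trichotomy i d with hi | rfl | hi
    swap; · rfl
    swap; · rw [coeff_eq_zero_of_natDegree_lt hi, zero_smul, zero_smul]
    rcases Nat.eq_zero_or_pos i with rfl | hi0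
    · rw [hcoef0, zero_smul, zero_smul]
    refine sub_eq_zero.1 ((Module.forall_dual_apply_eq_zero_iff k _).1 fun f => ?_)
    -- contract the second factor
    have hmem : cR f (aeval (s.y ⊗ₜ[k] ψ (G.e s.μ)) φ) ∈ C := by
      have he : aeval (s.y ⊗ₜ[k] ψ (G.e s.μ)) φ =
          subIncl₂ C (tz - (1 : C) ⊗ₜ[k] zC - aeval s.D φ) := by
        rw [map_sub, map_sub, show subIncl₂ C tz = _ from htz, hΔ]
        simp [subIncl₂, zC]
        abel
      rw [he]
      generalize tz - (1 : C) ⊗ₜ[k] zC - aeval s.D φ = t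
      induction t using TensorProduct.induction_on with
      | zero => simp
      | tmul x y => simpa [subIncl₂] using C.smul_mem x.2 _
      | add x y hx hy => rw [map_add, map_add]; exact C.add_mem hx hy
    have hsum : cR f (aeval (s.y ⊗ₜ[k] ψ (G.e s.μ)) φ) =
        ∑ n ∈ Finset.range (d + 1), (φ.coeff n * f (ψ (G.e s.μ) ^ n)) • s.y ^ n := by
      rw [aeval_eq_sum_range, map_sum]
      refine Finset.sum_congr rfl fun n _ => ?_
      rw [map_smul, Algebra.TensorProduct.tmul_pow, cR_tmul, smul_smul]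
    let a : ℕ → k := fun n => φ.coeff n * f (ψ (G.e s.μ) ^ n) - f (ψ (G.e s.μ) ^ d) * φ.coeff n
    let c' : C := ⟨_, C.sub_mem hmem (C.smul_mem hz (f (ψ (G.e s.μ) ^ d)))⟩
    let P : C[X] := ∑ n ∈ Finset.range d, Polynomial.C (algebraMap k C (a n)) * X ^ n - Polynomial.C c'
    have hP : P = 0 := by
      refine hrel P ?_ ?_
      · refine (degree_sub_le _ _).trans_lt (max_lt ?_ (degree_C_le.trans_lt (Nat.cast_pos.2 hpos)))
        exact (degree_sum_le _ _).trans_lt ((Finset.sup_lt_iff (WithBot.bot_lt_coe d)).2 fun n hn =>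
          (degree_C_mul_X_pow_le _ _).trans_lt (Nat.cast_lt.2 (Finset.mem_range.1 hn)))
      · simp only [P, map_sub, map_sum, map_mul, aeval_C, map_pow, aeval_X]
        rw [sub_eq_zero]
        show _ = cR f (aeval (s.y ⊗ₜ[k] ψ (G.e s.μ)) φ) - f (ψ (G.e s.μ) ^ d) • aeval s.y φ
        rw [hsum, aeval_eq_sum_range, Finset.smul_sum, ← Finset.sum_sub_distrib, Finset.sum_range_succ _ d]
        have hlast : (φ.coeff d * f (ψ (G.e s.μ) ^ d)) • s.y ^ d - f (ψ (G.e s.μ) ^ d) • φ.coeff d • s.y ^ d = 0 := by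
          rw [smul_smul, mul_comm, sub_self]
        rw [hlast, add_zero]
        refine Finset.sum_congr rfl fun n _ => ?_
        rw [← IsScalarTower.algebraMap_apply, ← Algebra.smul_def, smul_smul, ← sub_smul]
    have h := congrArg (fun Q => Polynomial.coeff Q i) hP
    simp only [P, coeff_sub, finsetSum_coeff, coeff_C_mul, coeff_X_pow, coeff_C, mul_ite, mul_one, mul_zero,
      Finset.sum_ite_eq, Finset.mem_range, hi, if_true, if_neg hi0.ne', sub_zero, coeff_zero] at h
    have h' : a i = 0 := (algebraMap k C).injective (h.trans (map_zero _).symm)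
    rw [map_sub, map_smul, map_smul, smul_eq_mul, smul_eq_mul]
    simp only [a] at h'
    linear_combination h'
  refine ⟨⟨φ, hφ, hmonic, hpos, hyb0, hadd, hz, fun i => hψ ?_, fun t ht => ?_, hrel⟩⟩
  · rw [map_smul, map_smul, map_pow, map_pow]
    exact hcoefγ i
  · rw [ht, hΔ, map_add, map_add]
    have hpow : ∀ i, φ.coeff i • ((1 : A) ⊗ₜ[k] ψ (G.e s.μ)) ^ i =
        φ.coeff i • ((1 : A) ⊗ₜ[k] ψ (G.e s.μ)) ^ d := by
      intro i
      rw [Algebra.TensorProduct.tmul_pow, Algebra.TensorProduct.tmul_pow, one_pow, one_pow,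
        ← TensorProduct.tmul_smul, ← TensorProduct.tmul_smul, hcoefγ]
    rw [show s.y ⊗ₜ[k] ψ (G.e s.μ) = (s.y ⊗ₜ[k] (1 : A)) * ((1 : A) ⊗ₜ[k] ψ (G.e s.μ)) by simp,
      aeval_mul_of_pow hpow,
      show s.y ⊗ₜ[k] (1 : A) = (Algebra.TensorProduct.includeLeft : A →ₐ[k] A ⊗[k] A) s.y from rfl,
      aeval_algHom_apply]
    simp [subIncl₂, map_pow, Algebra.TensorProduct.tmul_pow, hd]

include hs in
/-- Either no relation, or an additive minimal relation. -/
theorem exists_minRel [Algebra.FiniteType k A] (hψ : Function.Injective ψ) (hC : IsSubHopf k C) :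
    (∀ P : C[X], aeval s.y P = 0 → P = 0) ∨ Nonempty (MinRel s (R := R)) := by
  by_cases hint : IsIntegral k s.ybar
  swap
  · left
    intro P hP
    have hinj : Function.Injective (aeval (R := k) s.ybar) := by
      rw [← transcendental_iff_injective]
      exact fun h => hint (h.isIntegral)
    have hli : LinearIndependent k fun i : Fin (P.natDegree + 1) => s.ybar ^ (i : ℕ) := by
      have h1 := ((Polynomial.basisMonomials k).linearIndependent.map' (aeval (R := k) s.ybar).toLinearMap
        (LinearMap.ker_eq_bot.2 hinj)).comp (fun i : Fin (P.natDegree + 1) => (i : ℕ)) Fin.val_injective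
      have h2 : (fun i : Fin (P.natDegree + 1) => s.ybar ^ (i : ℕ)) =
          ((aeval (R := k) s.ybar).toLinearMap ∘ Polynomial.basisMonomials k) ∘ fun i : Fin (P.natDegree + 1) => (i : ℕ) := by
        funext i
        simp
      rw [h2]
      exact h1
    refine indep s hs hC hli ?_ hP
    exact degree_le_natDegree.trans_lt (by exact_mod_cast Nat.lt_succ_self _)
  exact Or.inr (exists_minRel_of_integral s hs hψ hC hint)

end Skew

end Groth.Agent.DiagUnip
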