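import Groth.Agent.DiagUnip.Eigen
import Groth.Agent.ComodSide.Basic
import Groth.Agent.FinHopf.Sub
import Groth.Agent.Comod.Reductive

/-!
# Skew primitive elements modulo a sub-Hopf algebra
-/

set_option autoImplicit false
set_option backward.isDefEq.respectTransparency false

universe u

open TensorProduct Coalgebra

noncomputable section

namespace Groth.Agent.DiagUnip

open Groth.Agent.Comod Groth.Agent.FlatSub Groth.Agent.FinHopf

variable {k : Type u} [Field k] {A : Type u} [CommRing A] [HopfAlgebra k A]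
variable {B : Type u} [CommRing B] [HopfAlgebra k B] {M : Type u} [CommGroup M] (G : GBasis k B M)
  (ψ : B →ₐc[k] A) (C : Subalgebra k A)

/-- An element which is primitive up to a character modulo a sub-Hopf algebra. -/
structure Skew where
  y : A
  μ : M
  D : C ⊗[k] C
  notMem : y ∉ C
  comul_y : comul (R := k) y = y ⊗ₜ[k] ψ (G.e μ) + (1 : A) ⊗ₜ[k] y + subIncl₂ C D

/-- A retraction of the character quotient, on a sub-Hopf algebra. -/
structure Retr where
  r : C →ₐ[k] B
  mem : ∀ b, ψ b ∈ C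
  retr : ∀ b, r ⟨ψ b, mem b⟩ = b
  counit' : ∀ c : C, counit (R := k) (r c) = counit (R := k) (c : A)
  comul' : ∀ (c : C) (t : C ⊗[k] C), subIncl₂ C t = comul (R := k) (c : A) →
    Algebra.TensorProduct.map r r t = comul (R := k) (r c)

variable {G ψ C}

theorem antipode_psi (m : M) : HopfAlgebra.antipode k (ψ (G.e m)) = ψ (G.e m⁻¹) := by
  have h := HopfAlgebra.mul_antipode_rTensor_comul_apply (R := k) (ψ (G.e m))
  rw [HopfRange.comul_map, G.comul', TensorProduct.map_tmul, LinearMap.rTensor_tmul, LinearMap.mul'_apply,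
    CoalgHomClass.counit_comp_apply, G.counit', map_one] at h
  have h2 : ψ (G.e m) * ψ (G.e m⁻¹) = 1 := by rw [← map_mul, G.mul_inv, map_one]
  calc HopfAlgebra.antipode k (ψ (G.e m)) = HopfAlgebra.antipode k (ψ (G.e m)) * (ψ (G.e m) * ψ (G.e m⁻¹)) := by
        rw [h2, mul_one]
    _ = _ := by rw [← mul_assoc]; erw [h]; rw [one_mul]

theorem mem_map_of_quot {t : A ⊗[k] A}
    (h1 : (Subalgebra.toSubmodule C).mkQ.rTensor A t = 0) (h2 : (Subalgebra.toSubmodule C).mkQ.lTensor A t = 0) :
    ∃ s : C ⊗[k] C, subIncl₂ C s = t := by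
  have h := (mem_range_map_iff (Subalgebra.toSubmodule C) (Subalgebra.toSubmodule C) t).2 ⟨fun f => ?_, fun φ => ?_⟩
  · obtain ⟨s, hs⟩ := h
    exact ⟨s, hs⟩
  · have := congrArg (cR f) h1
    rw [map_zero, cR_rTensor] at this
    exact (Submodule.Quotient.mk_eq_zero _).1 this
  · have := congrArg (cL φ) h2
    rw [map_zero, cL_lTensor] at this
    exact (Submodule.Quotient.mk_eq_zero _).1 this

/-- The coinvariant quotient as a comodule. -/
theorem isSubcomod_toSubmodule (hC : IsSubHopf k C) :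
    HopfRep.IsSubcomod (k := k) (A := A) (Subalgebra.toSubmodule C) :=
  isSubcomod_of_subcoalgebra (D := Subalgebra.toSubmodule C) fun b hb => hC.1 b hb

/-- The right coaction modulo a sub-Hopf algebra. -/
@[reducible] def qComod (hC : IsSubHopf k C) : HopfRep.Comod k A (A ⧸ Subalgebra.toSubmodule C) :=
  ComodSub.Comod.quot (HopfRep.Comod.regular k A) _ (isSubcomod_toSubmodule hC)

theorem mkQ_of_mem {c : A} (hc : c ∈ C) : (Subalgebra.toSubmodule C).mkQ c = 0 :=
  (Submodule.Quotient.mk_eq_zero _).2 hc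

/-- The left coaction modulo a sub-Hopf algebra. -/
def lamQ (hC : IsSubHopf k C) :
    A ⧸ Subalgebra.toSubmodule C →ₗ[k] A ⊗[k] (A ⧸ Subalgebra.toSubmodule C) :=
  (Subalgebra.toSubmodule C).liftQ ((Subalgebra.toSubmodule C).mkQ.lTensor A ∘ₗ comul (R := k)) fun c hc => by
    obtain ⟨s, hs⟩ := hC.1 c hc
    rw [LinearMap.mem_ker, LinearMap.comp_apply, ← hs]
    clear hs
    induction s using TensorProduct.induction_on with
    | zero => simp
    | tmul x y => simp [mkQ_of_mem y.2]
    | add x y hx hy => simp only [map_add, hx, hy, add_zero]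

theorem lamQ_mkQ (hC : IsSubHopf k C) (a : A) : lamQ hC ((Subalgebra.toSubmodule C).mkQ a) =
    (Subalgebra.toSubmodule C).mkQ.lTensor A (comul (R := k) a) := rfl

/-- The vectors of given left weight. -/
def leftEigen (hC : IsSubHopf k C) (g : A) : Submodule k (A ⧸ Subalgebra.toSubmodule C) :=
  LinearMap.ker (lamQ hC - TensorProduct.mk k A _ g)

theorem mem_leftEigen (hC : IsSubHopf k C) {g : A} {w : A ⧸ Subalgebra.toSubmodule C} :
    w ∈ leftEigen hC g ↔ lamQ hC w = g ⊗ₜ[k] w := by
  simp [leftEigen, sub_eq_zero]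

theorem isSubcomod_leftEigen (hC : IsSubHopf k C) (g : A) :
    letI := qComod hC
    HopfRep.IsSubcomod (k := k) (A := A) (leftEigen hC g) := by
  letI := qComod hC
  let N : Submodule k A := Subalgebra.toSubmodule C
  let p : A →ₗ[k] A ⧸ N := N.mkQ
  refine isSubcomod_iff.2 fun f w hw => (mem_leftEigen hC).2 ?_
  obtain ⟨b, rfl⟩ := Submodule.mkQ_surjective N w
  have hcomm : lamQ hC (dact k A (A ⧸ N) f (p b)) = (dact k A (A ⧸ N) f).lTensor A (lamQ hC (p b)) := by
    have h1 : dact k A (A ⧸ N) f (p b) = p (cR f.ofConv (comul (R := k) b)) := by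
      rw [dact_apply]
      exact cR_rTensor p f.ofConv (comul (R := k) b)
    rw [h1, lamQ_mkQ, lamQ_mkQ]
    have e1 : comul (R := k) (cR f.ofConv (comul (R := k) b)) =
        (cR f.ofConv ∘ₗ comul (R := k)).lTensor A (comul (R := k) b) := by
      have e : ∀ t : A ⊗[k] A, comul (R := k) (cR f.ofConv t) =
          (cR f.ofConv).lTensor A (TensorProduct.assoc k A A A ((comul (R := k) (A := A)).rTensor A t)) := by
        intro t
        induction t using TensorProduct.induction_on with
        | zero => simp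
        | tmul x y =>
          rw [cR_tmul, map_smul, LinearMap.rTensor_tmul]
          generalize comul (R := k) x = s
          induction s using TensorProduct.induction_on with
          | zero => simp
          | tmul p q => simp [TensorProduct.tmul_smul]
          | add p q hp hq => simp only [smul_add, TensorProduct.add_tmul, map_add, hp, hq]
        | add x y hx hy => simp only [map_add, hx, hy]
      rw [e, Coalgebra.coassoc_apply, ← LinearMap.lTensor_comp_apply]
    rw [e1, ← LinearMap.lTensor_comp_apply, ← LinearMap.lTensor_comp_apply]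
    congr 2
    refine LinearMap.ext fun x => ?_
    rw [LinearMap.comp_apply, LinearMap.comp_apply, LinearMap.comp_apply, dact_apply]
    exact (cR_rTensor p f.ofConv (comul (R := k) x)).symm
  change lamQ hC (dact k A (A ⧸ N) f (p b)) = _
  rw [hcomm, (mem_leftEigen hC (w := p b)).1 hw, LinearMap.lTensor_tmul]

/-- A bi-eigenvector modulo a sub-Hopf algebra gives a skew element. -/
theorem exists_skew_of_eigen (hC : IsSubHopf k C) (hmem : ∀ b, ψ b ∈ C) {b : A} (hb : b ∉ C) {m n : M}
    (h1 : (Subalgebra.toSubmodule C).mkQ.rTensor A (comul (R := k) b) =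
      (Subalgebra.toSubmodule C).mkQ b ⊗ₜ[k] ψ (G.e n))
    (h2 : (Subalgebra.toSubmodule C).mkQ b ∈ leftEigen hC (ψ (G.e m⁻¹))) :
    ∃ s : Skew G ψ C, s.y = ψ (G.e m) * b := by
  let N : Submodule k A := Subalgebra.toSubmodule C
  let p : A →ₗ[k] A ⧸ N := N.mkQ
  let g : A := ψ (G.e m⁻¹)
  have hD₁ : p.rTensor A (comul (R := k) b - b ⊗ₜ[k] ψ (G.e n) - g ⊗ₜ[k] b) = 0 := by
    rw [map_sub, map_sub, h1, LinearMap.rTensor_tmul, LinearMap.rTensor_tmul, sub_self,
      mkQ_of_mem (hmem _), TensorProduct.zero_tmul, sub_zero]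
  have hD₂ : p.lTensor A (comul (R := k) b - b ⊗ₜ[k] ψ (G.e n) - g ⊗ₜ[k] b) = 0 := by
    rw [map_sub, map_sub, ← lamQ_mkQ hC, (mem_leftEigen hC).1 h2, LinearMap.lTensor_tmul, LinearMap.lTensor_tmul,
      mkQ_of_mem (hmem _), TensorProduct.tmul_zero, sub_zero, sub_self]
  obtain ⟨D, hD⟩ := mem_map_of_quot hD₁ hD₂
  let gi : C := ⟨ψ (G.e m), hmem _⟩
  have hgg : ψ (G.e m) * g = 1 := by rw [← map_mul, G.mul_inv, map_one]
  refine ⟨⟨ψ (G.e m) * b, m * n, (gi ⊗ₜ gi) * D, fun h => hb ?_, ?_⟩, rfl⟩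
  · have := C.mul_mem (hmem (G.e m⁻¹)) h
    rwa [← mul_assoc, mul_comm (ψ (G.e m⁻¹)), hgg, one_mul] at this
  · rw [Bialgebra.comul_mul, HopfRange.comul_map, G.comul', G.mul', map_mul ψ, map_mul (subIncl₂ C), hD]
    simp only [TensorProduct.map_tmul, AlgHom.toLinearMap_apply, subIncl₂, Algebra.TensorProduct.map_tmul,
      Subalgebra.coe_val, gi]
    rw [mul_sub, mul_sub, Algebra.TensorProduct.tmul_mul_tmul, Algebra.TensorProduct.tmul_mul_tmul,
      BialgHom.coe_toAlgHom, hgg]
    abel

variable (J : Ideal A) [J.IsHopfIdeal k] (hJ : J = Ideal.map (ψ : B →+* A) (RingHom.ker (Bialgebra.counitAlgHom k B)))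
  (hU : HopfRep.IsUnipotent k (A ⧸ J))

include hJ hU in
theorem exists_skew₀ (hψ : Function.Injective ψ) (hC : IsSubHopf k C) (hmem : ∀ b, ψ b ∈ C) (hne : C ≠ ⊤) :
    Nonempty (Skew G ψ C) := by
  let N : Submodule k A := Subalgebra.toSubmodule C
  let p : A →ₗ[k] A ⧸ N := N.mkQ
  letI cQ : HopfRep.Comod k A (A ⧸ N) := qComod hC
  have hco : ∀ a, HopfRep.Comod.coact (k := k) (A := A) (p a) = p.rTensor A (comul (R := k) a) := fun a => rfl
  have hp0 : ∀ c ∈ C, p c = 0 := fun c hc => mkQ_of_mem hc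
  haveI : Nontrivial (A ⧸ N) := Submodule.Quotient.nontrivial_iff.2 fun h => hne (SetLike.ext fun x => by
    simpa [N] using SetLike.ext_iff.1 h x)
  obtain ⟨v, -, hv0, m, hv⟩ := exists_eigen G ψ hψ J hJ hU (V := A ⧸ N) (W := ⊤)
    (isSubcomod_iff.2 fun _ _ _ => Submodule.mem_top) top_ne_bot
  obtain ⟨a, rfl⟩ := Submodule.mkQ_surjective N v
  let S := HopfAlgebra.antipode k (A := A)
  have hS : p (S a) ≠ 0 := fun h => hv0 (hp0 a (by
    have := hC.2 _ ((Submodule.Quotient.mk_eq_zero N).1 h)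
    exact (show HopfAlgebra.antipode k (S a) = a from Comod.antipodeAlgHom_antipode a) ▸ this))
  have hSa : p (S a) ∈ leftEigen hC (ψ (G.e m⁻¹)) := by
    rw [mem_leftEigen, lamQ_mkQ, ComodSide.comul_antipode]
    have hd : (p.rTensor A) (comul (R := k) a - a ⊗ₜ[k] ψ (G.e m)) = 0 := by
      rw [map_sub, ← hco, hv, LinearMap.rTensor_tmul, sub_self]
    obtain ⟨s, hs⟩ : comul (R := k) a - a ⊗ₜ[k] ψ (G.e m) ∈ LinearMap.range (N.subtype.rTensor A) :=
      ((Module.Flat.rTensor_exact A (LinearMap.exact_subtype_mkQ N)) _).1 hd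
    rw [show comul (R := k) a = N.subtype.rTensor A s + a ⊗ₜ[k] ψ (G.e m) by rw [hs]; abel]
    simp only [map_add, TensorProduct.map_tmul, TensorProduct.comm_tmul, LinearMap.lTensor_tmul, antipode_psi]
    suffices h : p.lTensor A (TensorProduct.comm k A A (TensorProduct.map S S (N.subtype.rTensor A s))) = 0 by
      rw [h, zero_add]
    clear hs
    induction s using TensorProduct.induction_on with
    | zero => simp
    | tmul x y =>
      simp only [LinearMap.rTensor_tmul, Submodule.subtype_apply, TensorProduct.map_tmul, TensorProduct.comm_tmul,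
        LinearMap.lTensor_tmul]
      rw [hp0 _ (hC.2 _ x.2), TensorProduct.tmul_zero]
    | add x y hx hy => simp only [map_add, hx, hy, add_zero]
  obtain ⟨v', hv'W, hv'0, n, hv'⟩ := exists_eigen G ψ hψ J hJ hU (V := A ⧸ N)
    (isSubcomod_leftEigen hC _) ((Submodule.ne_bot_iff _).2 ⟨_, hSa, hS⟩)
  obtain ⟨b, rfl⟩ := Submodule.mkQ_surjective N v'
  obtain ⟨s, -⟩ := exists_skew_of_eigen (G := G) hC hmem (fun h => hv'0 (hp0 b h)) ((hco b).symm.trans hv') hv'W
  exact ⟨s⟩

/-- The cocycle identity of a skew element. -/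
theorem Skew.cocycle (s : Skew G ψ C) :
    TensorProduct.assoc k A A A (subIncl₂ C s.D ⊗ₜ[k] ψ (G.e s.μ)) +
      TensorProduct.assoc k A A A ((comul (R := k) (A := A)).rTensor A (subIncl₂ C s.D)) =
    (1 : A) ⊗ₜ[k] subIncl₂ C s.D + (comul (R := k) (A := A)).lTensor A (subIncl₂ C s.D) := by
  have h := Coalgebra.coassoc_apply (R := k) s.y
  have hγ : comul (R := k) (ψ (G.e s.μ)) = ψ (G.e s.μ) ⊗ₜ[k] ψ (G.e s.μ) := by
    rw [HopfRange.comul_map, G.comul', TensorProduct.map_tmul]; rfl
  rw [s.comul_y] at h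
  simp only [map_add, LinearMap.rTensor_tmul, LinearMap.lTensor_tmul, Bialgebra.comul_one, hγ, s.comul_y,
    TensorProduct.add_tmul, TensorProduct.tmul_add, Algebra.TensorProduct.one_def, TensorProduct.assoc_tmul] at h
  rw [← sub_eq_zero] at h ⊢
  rw [← h]
  abel

/-- Changing a skew element by the character quotient kills its cocycle. -/
theorem Skew.normalize (s : Skew G ψ C) (R : Retr ψ C) (hC : IsSubHopf k C) :
    ∃ s' : Skew G ψ C, Algebra.TensorProduct.map R.r R.r s'.D = 0 ∧ ∃ b : B, s'.y = s.y - ψ b := by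
  obtain ⟨P, hP⟩ := C.val.toLinearMap.exists_leftInverse_of_injective
    (LinearMap.ker_eq_bot.2 Subtype.val_injective)
  let E : A →ₗ[k] B := R.r.toLinearMap ∘ₗ P
  have hE : ∀ c : C, E (c : A) = R.r c := fun c => congrArg R.r (LinearMap.congr_fun hP c)
  have hEψ : ∀ b, E (ψ b) = b := fun b => (hE ⟨ψ b, R.mem b⟩).trans (R.retr b)
  have hE1 : E 1 = 1 := (hE 1).trans (map_one _)
  have hmap : ∀ t : C ⊗[k] C, TensorProduct.map E E (subIncl₂ C t) = Algebra.TensorProduct.map R.r R.r t := by
    intro t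
    induction t using TensorProduct.induction_on with
    | zero => simp
    | tmul x y => simp [subIncl₂, hE]
    | add x y hx hy => simp only [map_add, hx, hy]
  have hΔ : ∀ c : C, TensorProduct.map E E (comul (R := k) (c : A)) = comul (R := k) (R.r c) := by
    intro c
    obtain ⟨t, ht⟩ := hC.1 _ c.2
    rw [← ht, ← R.comul' c t ht]
    exact hmap t
  let E₃ := TensorProduct.map E (TensorProduct.map E E)
  have h₃ : ∀ (t : A ⊗[k] A) (x : A), E₃ (TensorProduct.assoc k A A A (t ⊗ₜ x)) =
      TensorProduct.assoc k B B B (TensorProduct.map E E t ⊗ₜ E x) := by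
    intro t x
    induction t using TensorProduct.induction_on with
    | zero => simp
    | tmul p q => simp [E₃]
    | add p q hp hq => simp only [TensorProduct.add_tmul, map_add, hp, hq]
  have hR : ∀ t : C ⊗[k] C, E₃ (TensorProduct.assoc k A A A ((comul (R := k) (A := A)).rTensor A (subIncl₂ C t))) =
      TensorProduct.assoc k B B B ((comul (R := k) (A := B)).rTensor B (Algebra.TensorProduct.map R.r R.r t)) := by
    intro t
    induction t using TensorProduct.induction_on with
    | zero => simp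
    | tmul x y =>
      simp only [subIncl₂, Algebra.TensorProduct.map_tmul, Subalgebra.coe_val, LinearMap.rTensor_tmul, h₃, hΔ, hE]
    | add x y hx hy => simp only [map_add, hx, hy]
  have hL : ∀ t : C ⊗[k] C, E₃ ((comul (R := k) (A := A)).lTensor A (subIncl₂ C t)) =
      (comul (R := k) (A := B)).lTensor B (Algebra.TensorProduct.map R.r R.r t) := by
    intro t
    induction t using TensorProduct.induction_on with
    | zero => simp
    | tmul x y =>
      simp only [subIncl₂, Algebra.TensorProduct.map_tmul, Subalgebra.coe_val, LinearMap.lTensor_tmul, E₃,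
        TensorProduct.map_tmul, hΔ, hE]
    | add x y hx hy => simp only [map_add, hx, hy]
  have hcoc : G.IsCocycle s.μ (Algebra.TensorProduct.map R.r R.r s.D) := by
    have h := congrArg E₃ s.cocycle
    simp only [map_add, h₃, hR, hL, hEψ, hmap] at h
    rw [show E₃ ((1 : A) ⊗ₜ[k] subIncl₂ C s.D) = (1 : B) ⊗ₜ[k] Algebra.TensorProduct.map R.r R.r s.D by
      simp [E₃, hE1, hmap]] at h
    exact h
  obtain ⟨b, hb⟩ := GBasis.exists_cob G hcoc
  let ψC : B →ₐ[k] C := (ψ : B →ₐ[k] A).codRestrict C R.mem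
  let D' : C ⊗[k] C := s.D + Algebra.TensorProduct.map ψC ψC (-(G.cob s.μ b))
  refine ⟨⟨s.y - ψ b, s.μ, D', fun h => s.notMem (by simpa using C.add_mem h (R.mem b)), ?_⟩, ?_, b, rfl⟩
  · rw [map_sub, s.comul_y, HopfRange.comul_map]
    have hψψ : ∀ t : B ⊗[k] B, subIncl₂ C (Algebra.TensorProduct.map ψC ψC t) =
        TensorProduct.map (ψ : B →ₐ[k] A).toLinearMap (ψ : B →ₐ[k] A).toLinearMap t := by
      intro t
      induction t using TensorProduct.induction_on with
      | zero => simp
      | tmul x y => simp [subIncl₂, ψC]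
      | add x y hx hy => simp only [map_add, hx, hy]
    simp only [D', map_add, hψψ, GBasis.cob, map_sub, map_neg, TensorProduct.map_tmul, AlgHom.toLinearMap_apply,
      BialgHom.coe_toAlgHom, map_one, TensorProduct.sub_tmul, TensorProduct.tmul_sub]
    abel
  · have hrψ : R.r.comp ψC = AlgHom.id k B := AlgHom.ext fun x => R.retr x
    show Algebra.TensorProduct.map R.r R.r D' = 0
    rw [map_add, ← AlgHom.comp_apply (Algebra.TensorProduct.map R.r R.r), ← Algebra.TensorProduct.map_comp, hrψ,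
      Algebra.TensorProduct.map_id, AlgHom.id_apply, hb, add_neg_cancel]

/-- A skew element whose cocycle is killed by the retraction. -/
theorem exists_skew (R : Retr ψ C) (hC : IsSubHopf k C) (hne : C ≠ ⊤) (J : Ideal A) [J.IsHopfIdeal k]
    (hJ : J = Ideal.map (ψ : B →+* A) (RingHom.ker (Bialgebra.counitAlgHom k B)))
    (hU : HopfRep.IsUnipotent k (A ⧸ J)) (hψ : Function.Injective ψ) :
    ∃ s : Skew G ψ C, Algebra.TensorProduct.map R.r R.r s.D = 0 := by
  obtain ⟨s⟩ := exists_skew₀ (G := G) J hJ hU hψ hC R.mem hne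
  obtain ⟨s', hs', -⟩ := s.normalize R hC
  exact ⟨s', hs'⟩

end Groth.Agent.DiagUnip
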