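import Groth.Agent.DiagUnip.Main
import Groth.Agent.DiagUnip.Fixed
import Mathlib.RingTheory.Jacobson.Ring
import Mathlib.RingTheory.Nullstellensatz

/-!
# Sections of extensions of diagonalisable groups by unipotent groups are conjugate
-/

set_option autoImplicit false
set_option backward.isDefEq.respectTransparency false

universe u

open TensorProduct Coalgebra Polynomial WithConv

noncomputable section

namespace Groth.Agent.DiagUnip

open Groth.Agent.Comod Groth.Agent.FlatSub Groth.Agent.Takeuchi Groth.Agent.FinHopf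

variable {k : Type u} [Field k] {A : Type u} [CommRing A] [HopfAlgebra k A]
variable {B : Type u} [CommRing B] [HopfAlgebra k B] {M : Type u} [CommGroup M] {G : GBasis k B M}
  {ψ : B →ₐc[k] A} {C : Subalgebra k A}

/-- A rational point as a constant point. -/
abbrev cst (B : Type u) [CommRing B] [Algebra k B] (u : Pt k A k) : Pt k A B := push (Algebra.ofId k B) u

/-- Conjugation by a rational point. -/
abbrev conj (u : Pt k A k) (r : Pt k A B) : Pt k A B := cst B u * r * (cst B u)⁻¹

/-- A comultiplicative point. -/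
def IsCom (r : Pt k A B) : Prop :=
  push (Bialgebra.comulAlgHom k B) r = push Algebra.TensorProduct.includeLeft r * push Algebra.TensorProduct.includeRight r

theorem isCom_bialgHom (r : A →ₐc[k] B) : IsCom (toConv (r : A →ₐ[k] B)) := by
  refine WithConv.ext (AlgHom.ext fun a => ?_)
  refine Eq.trans ?_ (Takeuchi.mul_apply _ _ a).symm
  show comul (R := k) (r a) = _
  rw [HopfRange.comul_map]
  generalize comul (R := k) a = t
  induction t using TensorProduct.induction_on with
  | zero => simp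
  | tmul x y => simp
  | add x y hx hy => simp only [map_add, hx, hy]

theorem push_cst {R : Type u} [CommRing R] [Algebra k R] (φ : B →ₐ[k] R) (u : Pt k A k) :
    push φ (cst B u) = cst R u :=
  WithConv.ext (AlgHom.ext fun a => φ.commutes (u a))

theorem IsCom.conj {r : Pt k A B} (hr : IsCom r) (u : Pt k A k) : IsCom (conj u r) := by
  show push _ (cst B u * r * (cst B u)⁻¹) = _
  rw [push_mul, push_mul, push_inv, push_cst, hr, DiagUnip.conj, push_mul, push_mul, push_inv, push_cst, push_mul, push_mul,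
    push_inv, push_cst]
  group

theorem conj_mul (v u : Pt k A k) (r : Pt k A B) : conj (v * u) r = conj v (conj u r) := by
  simp only [conj, cst, push_mul, mul_inv_rev, mul_assoc]

theorem conj_one (r : Pt k A B) : conj 1 r = r := by simp [conj, cst, push_one]

theorem inN_of_psi {J : Ideal A} (hJ : J = Ideal.map (ψ : B →+* A) (RingHom.ker (Bialgebra.counitAlgHom k B)))
    {R : Type u} [CommRing R] [Algebra k R] {v : Pt k A R}
    (hv : ∀ b, v (ψ b) = algebraMap k R (counit (R := k) b)) : InN J v := by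
  intro a ha
  rw [hJ] at ha
  refine RingHom.mem_ker.1 ((Ideal.map_le_iff_le_comap.2 ?_ : _ ≤ RingHom.ker v.ofConv.toRingHom) ha)
  intro b hb
  show v (ψ b) = 0
  rw [hv, show counit (R := k) b = 0 from hb, map_zero]

namespace Skew

variable (s : Skew G ψ C) {R : Type u} [CommRing R] [Algebra k R]

theorem mul_apply_y (f g : Pt k A R) : (f * g) s.y = f s.y * g (ψ (G.e s.μ)) + g s.y +
    Algebra.TensorProduct.lift f.ofConv g.ofConv (fun _ _ => Commute.all _ _) (subIncl₂ C s.D) := by
  rw [Takeuchi.mul_apply, s.comul_y, map_add, map_add, Algebra.TensorProduct.lift_tmul,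
    Algebra.TensorProduct.lift_tmul, map_one, one_mul]

variable {Rt : Retr ψ C} (hs : Algebra.TensorProduct.map Rt.r Rt.r s.D = 0)

include hs in
theorem lift_D_of_left (f g : Pt k A R) (hf : ∀ c ∈ C, f c = algebraMap k R (counit (R := k) c)) :
    Algebra.TensorProduct.lift f.ofConv g.ofConv (fun _ _ => Commute.all _ _) (subIncl₂ C s.D) = 0 := by
  have h : ∀ t : C ⊗[k] C, Algebra.TensorProduct.lift f.ofConv g.ofConv (fun _ _ => Commute.all _ _) (subIncl₂ C t) =
      g (TensorProduct.lid k A ((counit (R := k) (A := A)).rTensor A (subIncl₂ C t))) := by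
    intro t
    induction t using TensorProduct.induction_on with
    | zero => simp
    | tmul x y => simp [subIncl₂, hf _ x.2, Algebra.smul_def]
    | add x y hx hy => simp only [map_add, hx, hy]
  rw [h, s.counit_left_D hs, map_zero]

include hs in
theorem lift_D_of_right (f g : Pt k A R) (hg : ∀ c ∈ C, g c = algebraMap k R (counit (R := k) c)) :
    Algebra.TensorProduct.lift f.ofConv g.ofConv (fun _ _ => Commute.all _ _) (subIncl₂ C s.D) = 0 := by
  have h : ∀ t : C ⊗[k] C, Algebra.TensorProduct.lift f.ofConv g.ofConv (fun _ _ => Commute.all _ _) (subIncl₂ C t) =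
      f (TensorProduct.rid k A ((counit (R := k) (A := A)).lTensor A (subIncl₂ C t))) := by
    intro t
    induction t using TensorProduct.induction_on with
    | zero => simp
    | tmul x y => simp [subIncl₂, hg _ y.2, Algebra.smul_def, mul_comm]
    | add x y hx hy => simp only [map_add, hx, hy]
  rw [h, (s.counit_y hs).2, map_zero]

end Skew

/-- Rational points extend from a sub-Hopf algebra. -/
theorem exists_point_extend [IsAlgClosed k] [Algebra.FiniteType k A] (hC : IsSubHopf k C) (v : C →ₐ[k] k) :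
    ∃ w : Pt k A k, ∀ c : C, w (c : A) = v c := by
  haveI := Groth.Agent.FlatSub.faithfullyFlat hC
  let m : Ideal C := RingHom.ker v
  have hm : m ≠ ⊤ := RingHom.ker_ne_top _
  have hne : m.map (algebraMap C A) ≠ ⊤ := fun h => hm (by
    rw [← Ideal.comap_map_eq_self_of_faithfullyFlat (B := A) m, h, Ideal.comap_top])
  obtain ⟨M', hM', hle⟩ := Ideal.exists_le_maximal _ hne
  haveI := hM'
  let := Ideal.Quotient.field M'
  haveI : Module.Finite k (A ⧸ M') := finite_of_finite_type_of_isJacobsonRing k (A ⧸ M')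
  let e : k ≃ₐ[k] A ⧸ M' := AlgEquiv.ofBijective (Algebra.ofId k _)
    (IsAlgClosed.algebraMap_bijective_of_isIntegral (k := k) (K := A ⧸ M'))
  refine ⟨toConv (e.symm.toAlgHom.comp (Ideal.Quotient.mkₐ k M')), fun c => ?_⟩
  show e.symm (Ideal.Quotient.mk M' (c : A)) = v c
  rw [AlgEquiv.symm_apply_eq]
  show Ideal.Quotient.mk M' (c : A) = algebraMap k (A ⧸ M') (v c)
  rw [← Ideal.Quotient.mk_algebraMap, Ideal.Quotient.eq]
  have hmem : c - algebraMap k C (v c) ∈ m := by
    show v (c - algebraMap k C (v c)) = 0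
    simp
  exact hle (Ideal.mem_map_of_mem (algebraMap C A) hmem)

theorem aeval_smul_sub {φ : k[X]} (ha : IsAdd φ) {R : Type u} [CommRing R] [Algebra k R] {γ : R}
    (hγ : ∀ i, φ.coeff i • γ ^ i = φ.coeff i • γ ^ φ.natDegree) (b : k) :
    aeval (b • (γ - 1)) φ = φ.eval b • (γ ^ φ.natDegree - 1) := by
  rw [Algebra.smul_def, mul_sub, mul_one, ha.aeval_sub, aeval_mul_of_pow hγ, aeval_algebraMap_apply,
    coe_aeval_eq_eval, Algebra.smul_def, mul_sub, mul_one]

variable [IsAlgClosed k] [Algebra.FiniteType k A] (J : Ideal A) [J.IsHopfIdeal k]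
  (hJ : J = Ideal.map (ψ : B →+* A) (RingHom.ker (Bialgebra.counitAlgHom k B)))

include hJ in
/-- One step of the induction. -/
theorem step (hψ : Function.Injective ψ) (hC : IsSubHopf k C) (R : Retr ψ C) (r₁ r₂ : Pt k A B) (h₁ : IsCom r₁)
    (h₂ : IsCom r₂) (hr₁ : ∀ c : C, r₁ (c : A) = R.r c) (hr₂ : ∀ c : C, r₂ (c : A) = R.r c) (s : Skew G ψ C)
    (hs : Algebra.TensorProduct.map R.r R.r s.D = 0)
    (hgood : ∀ m : Skew.MinRel s (R := R), G.e s.μ ^ m.φ.natDegree = 1 → G.e s.μ = 1) :
    ∃ v : Pt k A k, InN J v ∧ ∀ c ∈ s.C', conj v r₁ c = r₂ c := by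
  classical
  have hprim : ∀ r : Pt k A B, IsCom r → (∀ c : C, r (c : A) = R.r c) →
      ∃ b : k, r s.y = b • (G.e s.μ - 1) := by
    intro r hr hrC
    refine G.skew_prim ?_
    have h : (push (Bialgebra.comulAlgHom k B) r) s.y = _ := congrArg (fun f : Pt k A (B ⊗[k] B) => f s.y) hr
    rw [s.mul_apply_y] at h
    have hD : ∀ t : C ⊗[k] C, Algebra.TensorProduct.lift
        (push (Algebra.TensorProduct.includeLeft : B →ₐ[k] B ⊗[k] B) r).ofConv
        (push (Algebra.TensorProduct.includeRight : B →ₐ[k] B ⊗[k] B) r).ofConv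
        (fun _ _ => Commute.all _ _) (subIncl₂ C t) = Algebra.TensorProduct.map R.r R.r t := by
      intro t
      induction t using TensorProduct.induction_on with
      | zero => simp
      | tmul x y => simp [subIncl₂, hrC]
      | add x y hx hy => simp only [map_add, hx, hy]
    rw [hD, hs, add_zero] at h
    have hγ : r (ψ (G.e s.μ)) = G.e s.μ := (hrC ⟨_, R.mem _⟩).trans (R.retr _)
    refine h.trans ?_
    show r s.y ⊗ₜ[k] (1 : B) * (1 : B) ⊗ₜ[k] r (ψ (G.e s.μ)) + (1 : B) ⊗ₜ[k] r s.y = _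
    rw [Algebra.TensorProduct.tmul_mul_tmul, hγ, mul_one, one_mul]
  obtain ⟨b₁, hb₁⟩ := hprim r₁ h₁ hr₁
  obtain ⟨b₂, hb₂⟩ := hprim r₂ h₂ hr₂
  -- the translation
  let δ : k := if G.e s.μ = 1 then 0 else b₂ - b₁
  have hδe : δ • (G.e s.μ - 1) = r₂ s.y - r₁ s.y := by
    rw [hb₁, hb₂, ← sub_smul]
    by_cases h : G.e s.μ = 1
    · rw [h, sub_self, smul_zero, smul_zero]
    · rw [show δ = b₂ - b₁ from if_neg h]
  let ε₀ : C →ₐ[k] k := (Bialgebra.counitAlgHom k A).comp C.val
  have hrel : ∀ P : C[X], aeval s.y P = 0 → P.eval₂ (ε₀ : C →+* k) δ = 0 := by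
    intro P hP
    rcases Skew.exists_minRel s hs hψ hC with h | ⟨⟨m⟩⟩
    · rw [h P hP, eval₂_zero]
    refine m.eval₂_eq_zero ε₀ δ ?_ hP
    have hz : ε₀ ⟨_, m.mem⟩ = 0 := by
      show Bialgebra.counitAlgHom k A (aeval s.y m.φ) = 0
      rw [← aeval_algHom_apply, show Bialgebra.counitAlgHom k A s.y = 0 from (s.counit_y hs).1, m.isAdd.aeval_zero]
    rw [hz, coe_aeval_eq_eval]
    by_cases h : G.e s.μ = 1
    · rw [show δ = 0 from if_pos h, ← coe_aeval_eq_eval, m.isAdd.aeval_zero]
    have e1 : r₂ (aeval s.y m.φ) = r₁ (aeval s.y m.φ) := (hr₂ ⟨_, m.mem⟩).trans (hr₁ ⟨_, m.mem⟩).symm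
    have e2 : aeval (δ • (G.e s.μ - 1)) m.φ = 0 := by
      rw [hδe, m.isAdd.aeval_sub, sub_eq_zero]
      exact (aeval_algHom_apply r₂.ofConv s.y m.φ).trans
        (e1.trans (aeval_algHom_apply r₁.ofConv s.y m.φ).symm)
    rw [aeval_smul_sub m.isAdd m.pow_eq] at e2
    exact (smul_eq_zero.1 e2).resolve_right fun h' => h (hgood m (sub_eq_zero.1 h'))
  obtain ⟨g, hg, hgy⟩ := s.exists_extend ε₀ δ hrel
  obtain ⟨v, hv⟩ := exists_point_extend (s.isSubHopf hC R.mem) g
  have hvC : ∀ c ∈ C, v c = counit (R := k) c := fun c hc =>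
    (hv ⟨c, s.le_C' hc⟩).trans (hg ⟨c, hc⟩)
  have hvy : v s.y = δ := (hv ⟨_, s.y_mem⟩).trans hgy
  refine ⟨v, inN_of_psi hJ fun b => (hvC _ (R.mem b)).trans (CoalgHomClass.counit_comp_apply ψ b), ?_⟩
  let X₀ : Pt k A B := cst B v
  have hX : ∀ c ∈ C, X₀ c = algebraMap k B (counit (R := k) c) := fun c hc => by
    show algebraMap k B (v c) = _
    rw [hvC c hc]
  have hXi : ∀ c ∈ C, X₀⁻¹ c = algebraMap k B (counit (R := k) c) := fun c hc => by
    rw [inv_congr_on hC (f' := (1 : Pt k A B)) (fun x hx => (hX x hx).trans (one_apply x).symm) hc, inv_one, one_apply]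
  have hγ : counit (R := k) (ψ (G.e s.μ)) = 1 := (CoalgHomClass.counit_comp_apply ψ _).trans (G.counit' _)
  have hF : ∀ c ∈ C, (X₀ * r₁) c = r₁ c := fun c hc => by
    rw [mul_congr_on hC (f' := (1 : Pt k A B)) (g' := r₁) (fun x hx => (hX x hx).trans (one_apply x).symm)
      (fun x _ => rfl) hc, one_mul]
  have hCeq : ∀ c ∈ C, conj v r₁ c = r₂ c := fun c hc => by
    show (X₀ * r₁ * X₀⁻¹) c = r₂ c
    rw [mul_congr_on hC (f' := r₁) (g' := (1 : Pt k A B)) hF (fun x hx => (hXi x hx).trans (one_apply x).symm) hc,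
      mul_one, hr₁ ⟨c, hc⟩, hr₂ ⟨c, hc⟩]
  have hXy : X₀ s.y = algebraMap k B δ := by
    show algebraMap k B (v s.y) = _
    rw [hvy]
  have hXiy : X₀⁻¹ s.y = -algebraMap k B δ := by
    have h := s.mul_apply_y X₀ X₀⁻¹
    rw [mul_inv_cancel, one_apply, (s.counit_y hs).1, map_zero, s.lift_D_of_left hs _ _ hX, add_zero,
      hXi _ (R.mem _), hγ, map_one, mul_one, hXy] at h
    exact eq_neg_of_add_eq_zero_right h.symm
  have hy : conj v r₁ s.y = r₂ s.y := by
    show (X₀ * r₁ * X₀⁻¹) s.y = r₂ s.y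
    rw [s.mul_apply_y, s.lift_D_of_right hs _ _ hXi, add_zero, hXi _ (R.mem _), hγ, map_one, mul_one, hXiy,
      s.mul_apply_y, s.lift_D_of_left hs _ _ hX, add_zero, hXy,
      show r₁ (ψ (G.e s.μ)) = G.e s.μ from (hr₁ ⟨_, R.mem _⟩).trans (R.retr _)]
    calc algebraMap k B δ * G.e s.μ + r₁ s.y + -algebraMap k B δ = δ • (G.e s.μ - 1) + r₁ s.y := by
          rw [Algebra.smul_def]; ring
      _ = r₂ s.y := by rw [hδe, sub_add_cancel]
  exact s.C'_le (S := AlgHom.equalizer (conj v r₁).ofConv r₂.ofConv) hCeq hy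

include hJ in
/-- Conjugacy, given a good choice of the steps. -/
theorem exists_conj (hψ : Function.Injective ψ) (P : Subalgebra k A → Prop) (hP : P (ψ : B →ₐ[k] A).range)
    (hstep : ∀ (C : Subalgebra k A) (R : Retr ψ C), IsSubHopf k C → C ≠ ⊤ → P C →
      ∃ s : Skew G ψ C, Algebra.TensorProduct.map R.r R.r s.D = 0 ∧ P s.C' ∧
        ∀ m : Skew.MinRel s (R := R), G.e s.μ ^ m.φ.natDegree = 1 → G.e s.μ = 1)
    (r' r'' : A →ₐc[k] B) (hr' : r'.comp ψ = BialgHom.id k B) (hr'' : r''.comp ψ = BialgHom.id k B) :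
    ∃ u : A →ₐ[k] k, (∀ a ∈ J, u a = 0) ∧ (r'' : A →ₐ[k] B) =
      Dyn.conv3 k A ((Algebra.ofId k B).comp u) (r' : A →ₐ[k] B)
        (((Algebra.ofId k B).comp u).comp (HopfAlgebra.antipodeAlgHom k A)) := by
  haveI : IsNoetherianRing A := Algebra.FiniteType.isNoetherianRing k A
  let P' : Pt k A B := toConv (r' : A →ₐ[k] B)
  let P'' : Pt k A B := toConv (r'' : A →ₐ[k] B)
  let S : Set (Ideal A) := {I | ∃ C : Subalgebra k A, IsSubHopf k C ∧ (∀ b, ψ b ∈ C) ∧ P C ∧
    (∃ u : Pt k A k, InN J u ∧ ∀ c ∈ C, conj u P' c = P'' c) ∧ aug C = I}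
  obtain ⟨I, ⟨C, hC, hmem, hPC, ⟨u, huJ, hu⟩, rfl⟩, hmax⟩ :=
    set_has_maximal_iff_noetherian.2 (inferInstance : IsNoetherian A A) S
      ⟨_, _, HopfRange.isSubHopf_range ψ, fun b => ⟨b, rfl⟩, hP, ⟨1, Takeuchi.inN_one, fun c hc => by
        obtain ⟨b, rfl⟩ := hc
        rw [conj_one]
        exact (congrArg (fun f : B →ₐc[k] B => f b) hr').trans (congrArg (fun f : B →ₐc[k] B => f b) hr'').symm⟩, rfl⟩
  have htop : C = ⊤ := by
    by_contra hne
    let R : Retr ψ C :=
      { r := (r'' : A →ₐ[k] B).comp C.val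
        mem := hmem
        retr := fun b => congrArg (fun f : B →ₐc[k] B => f b) hr''
        counit' := fun c => CoalgHomClass.counit_comp_apply r'' _
        comul' := fun c t ht => by
          show _ = comul (R := k) (r'' (c : A))
          rw [HopfRange.comul_map, ← ht]
          clear ht
          induction t using TensorProduct.induction_on with
          | zero => simp
          | tmul x y => simp [subIncl₂]
          | add x y hx hy => simp only [map_add, hx, hy] }
    obtain ⟨s, hs, hPs, hgood⟩ := hstep C R hC hne hPC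
    obtain ⟨v, hvJ, hv⟩ := step J hJ hψ hC R (conj u P') P'' ((isCom_bialgHom r').conj u) (isCom_bialgHom r'')
      (fun c => hu _ c.2) (fun c => rfl) s hs hgood
    refine hmax _ ⟨s.C', s.isSubHopf hC hmem, fun b => s.le_C' (hmem b), hPs,
      ⟨v * u, hvJ.mul huJ, fun c hc => by rw [conj_mul]; exact hv c hc⟩, rfl⟩
      (lt_of_le_not_ge (aug_mono s.le_C') (s.not_mem_of_le hs hC))
  subst htop
  refine ⟨u.ofConv, huJ, AlgHom.ext fun a => ?_⟩
  rw [conv3_eq]
  exact (hu a trivial).symm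

/-- A group element whose order divides the degree of an additive polynomial is trivial in a reduced ring. -/
theorem eq_one_of_isReduced {φ : k[X]} (ha : IsAdd φ) (hm : φ.Monic) (hpos : 0 < φ.natDegree) [IsReduced B] {γ : B}
    (h : γ ^ φ.natDegree = 1) : γ = 1 := by
  rcases ha.pow_eq hm (γ - 1) (1 : B) with h1 | h1
  · rw [sub_add_cancel, h, one_pow, right_eq_add] at h1
    exact sub_eq_zero.1 (IsNilpotent.eq_zero ⟨_, h1⟩)
  · omega

theorem natDegree_eq_one_of_charZero [CharZero k] {φ : k[X]} (ha : IsAdd φ) (hm : φ.Monic)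
    (hpos : 0 < φ.natDegree) : φ.natDegree = 1 := by
  by_contra h
  have := ha.2 φ.natDegree 1 one_pos (by omega)
  rw [show φ.coeff φ.natDegree = 1 from hm, one_mul, Nat.choose_one_right] at this
  exact hpos.ne' (by exact_mod_cast this)

include hJ in
/-- **Sections are conjugate under the unipotent kernel**, if the quotient or the kernel is smooth. -/
theorem exists_conj_of_smooth (hψ : Function.Injective ψ) (hU : HopfRep.IsUnipotent k (A ⧸ J))
    (hsm : IsReduced B ∨ IsReduced (A ⧸ J)) (G : GBasis k B M) (r' r'' : A →ₐc[k] B)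
    (hr' : r'.comp ψ = BialgHom.id k B) (hr'' : r''.comp ψ = BialgHom.id k B) :
    ∃ u : A →ₐ[k] k, (∀ a ∈ J, u a = 0) ∧ (r'' : A →ₐ[k] B) =
      Dyn.conv3 k A ((Algebra.ofId k B).comp u) (r' : A →ₐ[k] B)
        (((Algebra.ofId k B).comp u).comp (HopfAlgebra.antipodeAlgHom k A)) := by
  obtain ⟨q, hq⟩ := CharP.exists k
  rcases CharP.char_is_prime_or_zero k q with hp | rfl
  swap
  · haveI : CharZero k := CharP.charP_to_charZero k
    refine exists_conj (G := G) J hJ hψ (fun _ => True) trivial (fun C R hC hne _ => ?_) r' r'' hr' hr''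
    obtain ⟨s, hs⟩ := exists_skew (G := G) R hC hne J hJ hU hψ
    exact ⟨s, hs, trivial, fun m h => by
      rwa [natDegree_eq_one_of_charZero m.isAdd m.monic m.pos, pow_one] at h⟩
  haveI := Fact.mk hp
  rcases hsm with hB | hU'
  · refine exists_conj (G := G) J hJ hψ (fun _ => True) trivial (fun C R hC hne _ => ?_) r' r'' hr' hr''
    obtain ⟨s, hs⟩ := exists_skew (G := G) R hC hne J hJ hU hψ
    exact ⟨s, hs, trivial, fun m h => eq_one_of_isReduced m.isAdd m.monic m.pos h⟩
  · have hJ' : aug (ψ : B →ₐ[k] A).range = J := by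
      rw [hJ]
      refine le_antisymm (Ideal.span_le.2 ?_) (Ideal.map_le_iff_le_comap.2 fun b hb =>
        Ideal.subset_span ⟨⟨b, rfl⟩, (CoalgHomClass.counit_comp_apply ψ b).trans hb⟩)
      rintro a ⟨⟨b, rfl⟩, h0⟩
      exact Ideal.mem_map_of_mem _ ((CoalgHomClass.counit_comp_apply ψ b).symm.trans h0)
    have hred : ∀ I : Ideal A, I = J → _root_.IsReduced (A ⧸ I) := fun I hI => by subst hI; exact hU'
    refine exists_conj (G := G) J hJ hψ (fun C => _root_.IsReduced (A ⧸ aug C)) (hred _ hJ')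
      (fun C R hC hne hPC => ?_) r' r'' hr' hr''
    haveI := hPC
    haveI := hU'
    obtain ⟨s, hs, hred'⟩ := exists_skew_reduced (G := G) J hJ q R hC hne hψ hU
    refine ⟨s, hs, hred', fun m h => ?_⟩
    have hint : IsIntegral k s.ybar := ⟨m.φ, m.monic, m.aeval_ybar⟩
    have h1 : m.φ.coeff 1 ≠ 0 := by
      have h0 := m.isAdd.1
      rw [m.eq_minpoly] at h0 ⊢
      exact coeff_one_minpoly_ne_zero hint h0
    have h2 := m.pow_eq 1
    rw [pow_one, h] at h2
    exact smul_right_injective B h1 h2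

end Groth.Agent.DiagUnip
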